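import Mathlib.Algebra.Homology.DerivedCategory.Ext.Map
import Mathlib.Algebra.Homology.DerivedCategory.Ext.ExactSequences
import Mathlib.Algebra.Homology.DerivedCategory.Ext.EnoughInjectives

/-! Naturality of the map on extension groups induced by a composite of two exact functors. -/

set_option autoImplicit false
set_option linter.style.haveILetI false
set_option linter.unusedSectionVars false
set_option backward.isDefEq.respectTransparency false
set_option backward.isDefEq.respectTransparency.types false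

universe w₁ w₂ w₃ w₄ v₁ v₂ v₃ v₄ u₁ u₂ u₃ u₄

open CategoryTheory Category Limits Abelian

namespace Groth.Agent.GalNorm

variable {A : Type u₁} [Category.{v₁} A] [Abelian A] [HasExt.{w₁} A] [EnoughInjectives A]
  {B : Type u₂} [Category.{v₂} B] [Abelian B] [HasExt.{w₂} B]
  {C : Type u₃} [Category.{v₃} C] [Abelian C] [HasExt.{w₃} C]
  {D : Type u₄} [Category.{v₄} D] [Abelian D] [HasExt.{w₄} D]
  (G₁ : A ⥤ B) [G₁.Additive] [PreservesFiniteLimits G₁] [PreservesFiniteColimits G₁]
  (H₁ : B ⥤ D) [H₁.Additive] [PreservesFiniteLimits H₁] [PreservesFiniteColimits H₁]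
  (G₂ : A ⥤ C) [G₂.Additive] [PreservesFiniteLimits G₂] [PreservesFiniteColimits G₂]
  (H₂ : C ⥤ D) [H₂.Additive] [PreservesFiniteLimits H₂] [PreservesFiniteColimits H₂]

theorem mapExt₂_natTrans (τ : G₁ ⋙ H₁ ⟶ G₂ ⋙ H₂) : ∀ (n : ℕ) (Z F : A) (x : Ext.{w₁} Z F n),
    ((x.mapExactFunctor G₁).mapExactFunctor H₁).comp (Ext.mk₀ (τ.app F)) (add_zero n) =
      (Ext.mk₀ (τ.app Z)).comp ((x.mapExactFunctor G₂).mapExactFunctor H₂) (zero_add n)
  | 0, Z, F, x => by
      obtain ⟨g, rfl⟩ := (Ext.mk₀_bijective Z F).2 x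
      rw [Ext.mapExactFunctor_mk₀, Ext.mapExactFunctor_mk₀, Ext.mapExactFunctor_mk₀, Ext.mapExactFunctor_mk₀,
        Ext.mk₀_comp_mk₀, Ext.mk₀_comp_mk₀]
      exact congrArg Ext.mk₀ (τ.naturality g)
  | n + 1, Z, F, x => by
      let S : ShortComplex A := ShortComplex.mk (Injective.ι F) (cokernel.π _) (cokernel.condition _)
      have hS : S.ShortExact := { exact := ShortComplex.exact_cokernel _ }
      haveI : Injective S.X₂ := inferInstanceAs (Injective (Injective.under F))
      obtain ⟨y, hy⟩ := Ext.covariant_sequence_exact₁ Z hS x (Ext.eq_zero_of_injective _) (n₀ := n) rfl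
      have hy' : y.comp hS.extClass rfl = x := hy
      rw [← hy', Ext.mapExactFunctor_comp, Ext.mapExactFunctor_comp, Ext.mapExactFunctor_comp,
        Ext.mapExactFunctor_comp, Ext.mapExactFunctor_extClass, Ext.mapExactFunctor_extClass,
        Ext.mapExactFunctor_extClass, Ext.mapExactFunctor_extClass]
      let φ : (S.map G₁).map H₁ ⟶ (S.map G₂).map H₂ :=
        { τ₁ := τ.app _, τ₂ := τ.app _, τ₃ := τ.app _
          comm₁₂ := (τ.naturality _).symm, comm₂₃ := (τ.naturality _).symm }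
      have hnat := ShortComplex.ShortExact.extClass_naturality ((hS.map_of_exact G₁).map_of_exact H₁)
        ((hS.map_of_exact G₂).map_of_exact H₂) φ
      rw [Ext.comp_assoc (a₁₂ := n + 1) (a₂₃ := 1) _ _ _ _ (by omega)]
      erw [hnat]
      rw [← Ext.comp_assoc (a₁₂ := n) (a₂₃ := 1) _ _ _ _ (by omega)]
      erw [mapExt₂_natTrans τ n Z _ y]
      rw [Ext.comp_assoc (a₁₂ := n) (a₂₃ := n + 1) _ _ _ _ (by omega)]
      all_goals omega

theorem mapExt₂_eq_zero (τ : G₁ ⋙ H₁ ≅ G₂ ⋙ H₂) {n : ℕ} {Z F : A} (x : Ext.{w₁} Z F n)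
    (hx : x.mapExactFunctor G₁ = 0) : (x.mapExactFunctor G₂).mapExactFunctor H₂ = 0 := by
  have h := mapExt₂_natTrans G₁ H₁ G₂ H₂ τ.hom n Z F x
  rw [hx, Ext.mapExactFunctor_zero, Ext.zero_comp] at h
  have h2 := congrArg (fun w => (Ext.mk₀ (τ.inv.app Z)).comp w (zero_add n)) h
  rw [Ext.comp_zero, Ext.mk₀_comp_mk₀_assoc] at h2
  erw [Iso.inv_hom_id_app, Ext.mk₀_id_comp] at h2
  exact h2.symm

end Groth.Agent.GalNorm
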