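import Groth.Agent.GalNorm.Torsion
import Groth.Agent.GalNorm.MapExt
import Groth.Agent.EtMV.Etale
import Groth.Agent.EtTrivGen.OpenLocal
import Groth.Agent.RPlusComp.Etale

/-! A class whose inverse image on a point vanishes is killed by the structure map of that point. -/

set_option autoImplicit false
set_option backward.isDefEq.respectTransparency false
set_option backward.isDefEq.respectTransparency.types false
set_option linter.style.haveILetI false
set_option linter.auxLemma false

universe u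

open CategoryTheory CategoryTheory.Limits CategoryTheory.Abelian AlgebraicGeometry Opposite
open Groth.Agent.GalCohLib (pt ptMap)

noncomputable section

namespace Groth.Agent.GalNorm

attribute [local instance 100000] EtCoh.H._proof_1 EtMV.hext
attribute [local instance 200000] EtMV.hextAb

section Forget

variable (Λ : Type (u + 1)) [CommRing Λ] (X : Scheme.{u})

theorem forgetToAb_additive : (EtModD.forgetToAb Λ X).Additive := { map_add := rfl }

theorem forgetToAb_preservesFiniteLimits : PreservesFiniteLimits (EtModD.forgetToAb Λ X) := by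
  haveI : PreservesFiniteLimits
      (sheafToPresheaf X.smallEtaleTopology (ModuleCat.{u + 1} Λ) ⋙
        (Functor.whiskeringRight _ _ _).obj (forget₂ (ModuleCat.{u + 1} Λ) AddCommGrpCat.{u + 1})) :=
    inferInstance
  haveI : PreservesFiniteLimits (EtModD.forgetToAb Λ X ⋙ sheafToPresheaf X.smallEtaleTopology AddCommGrpCat.{u + 1}) :=
    ‹_›
  exact preservesFiniteLimits_of_reflects_of_preserves _ (sheafToPresheaf X.smallEtaleTopology AddCommGrpCat.{u + 1})

theorem forgetToAb_preservesEpimorphisms : (EtModD.forgetToAb Λ X).PreservesEpimorphisms := by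
  refine ⟨fun {A B} f hf => ?_⟩
  haveI : Sheaf.IsLocallySurjective f := (Sheaf.isLocallySurjective_iff_epi' _ f).2 hf
  refine epi_of_local _ fun V s v => ?_
  have hmem := Presheaf.imageSieve_mem X.smallEtaleTopology f.hom (U := op V) s
  obtain ⟨W, g, w, ⟨t, ht⟩, hw⟩ := (EtFLC.mem_iff _).1 hmem v
  exact ⟨W, g, w, t, hw, ht⟩

theorem forgetToAb_preservesFiniteColimits : PreservesFiniteColimits (EtModD.forgetToAb Λ X) := by
  haveI := forgetToAb_additive Λ X
  haveI := forgetToAb_preservesFiniteLimits Λ X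
  haveI := forgetToAb_preservesEpimorphisms Λ X
  haveI := (EtModD.forgetToAb Λ X).preservesHomology_of_preservesEpis_and_kernels
  exact (EtModD.forgetToAb Λ X).preservesFiniteColimits_of_preservesHomology

end Forget

variable {F : Type u} [Field F] {m : ℕ}
  [PreservesFiniteLimits (EtModD.forgetToAb (GalSym.Coef.{u} m) (Spec (CommRingCat.of F)))]
  [PreservesFiniteColimits (EtModD.forgetToAb (GalSym.Coef.{u} m) (Spec (CommRingCat.of F)))]
  [(EtModD.forgetToAb (GalSym.Coef.{u} m) (Spec (CommRingCat.of F))).Additive]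

/-- Forgetting the coefficients commutes with the inverse image along an etale morphism. -/
def pullForgetIso (Λ : Type (u + 1)) [CommRing Λ] {U X : Scheme.{u}} (j : U ⟶ X) [Etale j] [EtShriek.JCont j] :
    EtModW.pull Λ j ⋙ EtModD.forgetToAb Λ U ≅ EtModD.forgetToAb Λ X ⋙ EtCoh.pull j :=
  Functor.isoWhiskerRight (EtTrivGen.restrPullMod j).symm (EtModD.forgetToAb Λ U) ≪≫
    (NatIso.ofComponents (fun _ => Iso.refl _) (fun _ => by simp; rfl) :
      (EtShriek.compEtale j).sheafPushforwardContinuous (ModuleCat.{u + 1} Λ) U.smallEtaleTopology X.smallEtaleTopology ⋙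
        EtModD.forgetToAb Λ U ≅ EtModD.forgetToAb Λ X ⋙ EtShriek.restrAlong j) ≪≫
    Functor.isoWhiskerLeft (EtModD.forgetToAb Λ X) (EtPushStalk.restrPullIso j)

theorem HModPull_eq_zero {Λ : Type (u + 1)} [CommRing Λ] {X Y : Scheme.{u}} (f : X ⟶ Y)
    [PreservesFiniteLimits (EtModW.pull Λ f)] {G : EtModW.Mod Λ Y} {n : ℕ} (x : EtSix.HMod Λ Y G n)
    (hx : EtSix.HModPull Λ f G n x = 0) : x.mapExactFunctor (EtModW.pull Λ f) = 0 := by
  have h : (Ext.mk₀ (EtSix.pullConstΛ Λ f).inv).comp (x.mapExactFunctor (EtModW.pull Λ f)) (zero_add n) = 0 := hx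
  have h2 := congrArg (fun w => (Ext.mk₀ (EtSix.pullConstΛ Λ f).hom).comp w (zero_add n)) h
  rw [Ext.comp_zero, Ext.mk₀_comp_mk₀_assoc, Iso.hom_inv_id, Ext.mk₀_id_comp] at h2
  exact h2

variable (D : Dat F m) (K : Type u) [Field K] [Algebra F K] [FiniteDimensional F K] [Algebra.IsSeparable F K]

theorem Tmap_comp_θ_eq_zero (x : EtSix.HMod (GalSym.Coef.{u} m) (Spec (CommRingCat.of F)) (GalSym.muPow D.μ 2) 2)
    [PreservesFiniteLimits (EtModW.pull (GalSym.Coef.{u} m) (Spec.map (CommRingCat.ofHom (algebraMap F K))))]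
    (hx : EtSix.HModPull (GalSym.Coef.{u} m) (Spec.map (CommRingCat.ofHom (algebraMap F K))) (GalSym.muPow D.μ 2) 2 x = 0) :
    (Ext.mk₀ (Tmap K)).comp (D.θ x) (zero_add 2) = 0 := by
  let j : Spec (CommRingCat.of K) ⟶ Spec (CommRingCat.of F) := Spec.map (CommRingCat.ofHom (algebraMap F K))
  let Λ := GalSym.Coef.{u} m
  haveI : Etale j := GalCohLib.etale_spec F K
  haveI := EtMV.jcont_etale j
  haveI := EtPullExact.pull_preservesFiniteLimits j
  haveI := forgetToAb_preservesFiniteLimits Λ (Spec (CommRingCat.of K))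
  haveI := forgetToAb_preservesFiniteColimits Λ (Spec (CommRingCat.of K))
  haveI := forgetToAb_additive Λ (Spec (CommRingCat.of K))
  haveI : PreservesBinaryBiproducts (EtModW.pull Λ j) := preservesBinaryBiproducts_of_preservesBinaryCoproducts _
  haveI : (EtModW.pull Λ j).Additive := Functor.additive_of_preservesBinaryBiproducts _
  haveI := isIso_twistUnit_app D.t D.μ
  have h1 : (D.θA x).mapExactFunctor (EtModW.pull Λ j) = 0 := by
    show (x.comp (Ext.mk₀ (inv ((twistUnit D.t).app D.μ))) (add_zero 2)).mapExactFunctor (EtModW.pull Λ j) = 0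
    rw [Ext.mapExactFunctor_comp, HModPull_eq_zero j x hx, Ext.zero_comp]
  have h2 : ((D.θA x).mapExactFunctor (EtModD.forgetToAb Λ (Spec (CommRingCat.of F)))).mapExactFunctor (EtCoh.pull j) = 0 :=
    mapExt₂_eq_zero _ _ _ _ (pullForgetIso Λ j) _ h1
  have h3 : (D.θ x).mapExactFunctor (EtCoh.pull j) = 0 := by
    show ((((Ext.mk₀ (EtSix.intToConstΛ Λ (Spec (CommRingCat.of F)))).comp
      ((D.θA x).mapExactFunctor (EtModD.forgetToAb Λ (Spec (CommRingCat.of F)))) (zero_add 2))).comp
      (Ext.mk₀ (D.e.hom ≫ EtCoh.muι (Spec (CommRingCat.of F)) m)) (add_zero 2)).mapExactFunctor (EtCoh.pull j) = 0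
    rw [Ext.mapExactFunctor_comp, Ext.mapExactFunctor_comp, h2, Ext.comp_zero, Ext.zero_comp]
  apply (EtMV.Tcc_etale_bijective j (EtCoh.Gm (Spec (CommRingCat.of F))) 2).1
  refine Eq.trans ?_ (map_zero _).symm
  rw [EtMV.T_apply, Ext.mapExactFunctor_comp, h3, Ext.comp_zero, Ext.comp_zero]

end Groth.Agent.GalNorm
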