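import Mathlib.Algebra.Homology.DerivedCategory.Ext.Map
import Mathlib.Algebra.Homology.DerivedCategory.Ext.ExactSequences
import Groth.Agent.DerPlus.ExtEfface

/-!
Formal Ext calculus: first degree naturality of `mapExactFunctor` in the functor, pullback extensions, and the
class of an extension killed by `m` against the class of `Z → Z → Z/m`.
-/

set_option autoImplicit false
set_option backward.isDefEq.respectTransparency false
set_option linter.style.haveILetI false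

universe w w' v v' u u'

open CategoryTheory CategoryTheory.Limits CategoryTheory.Abelian

noncomputable section

namespace Groth.Agent.GalNorm

variable {C : Type u} [Category.{v} C] [Abelian C] [HasExt.{w} C]

section NatTrans

variable {D : Type u'} [Category.{v'} D] [Abelian D] [HasExt.{w'} D]
  (G G' : C ⥤ D) [G.Additive] [PreservesFiniteLimits G] [PreservesFiniteColimits G]
  [G'.Additive] [PreservesFiniteLimits G'] [PreservesFiniteColimits G']

/-- Naturality of the map on first extension groups in the exact functor. -/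
theorem mapExt_natTrans (τ : G ⟶ G') {X Y : C} (β : Ext.{w} X Y 1) :
    (β.mapExactFunctor G).comp (Ext.mk₀ (τ.app Y)) (add_zero 1) =
      (Ext.mk₀ (τ.app X)).comp (β.mapExactFunctor G') (zero_add 1) := by
  obtain ⟨E, e, he, hk⟩ := DerPlus.exists_epi_killing 0 β
  let S := ShortComplex.mk _ _ (kernel.condition e)
  have hS : S.ShortExact := { exact := ShortComplex.exact_kernel e }
  obtain ⟨γ, hγ⟩ := Ext.contravariant_sequence_exact₃ hS Y β hk (n₀ := 0) (by omega)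
  obtain ⟨g, rfl⟩ := (Ext.mk₀_bijective _ _).2 γ
  subst hγ
  let φ : S.map G ⟶ S.map G' :=
    { τ₁ := τ.app _, τ₂ := τ.app _, τ₃ := τ.app _
      comm₁₂ := (τ.naturality _).symm, comm₂₃ := (τ.naturality _).symm }
  have hn := ShortComplex.ShortExact.extClass_naturality (hS.map_of_exact G) (hS.map_of_exact G') φ
  rw [Ext.mapExactFunctor_comp, Ext.mapExactFunctor_extClass, Ext.mapExactFunctor_mk₀,
    Ext.mapExactFunctor_comp, Ext.mapExactFunctor_extClass, Ext.mapExactFunctor_mk₀,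
    Ext.comp_assoc_of_third_deg_zero, Ext.mk₀_comp_mk₀, τ.naturality, ← Ext.mk₀_comp_mk₀,
    ← Ext.comp_assoc_of_third_deg_zero]
  refine (congrArg (fun z => Ext.comp z (Ext.mk₀ (G'.map g)) (add_zero 1)) hn).trans ?_
  exact Ext.comp_assoc_of_third_deg_zero _ _ _ _

end NatTrans

/-- The pullback of an extension along a morphism to its quotient. -/
theorem exists_pullback_ext {S : ShortComplex C} (hS : S.ShortExact) {Z : C} (c : Z ⟶ S.X₃) :
    ∃ (K : C) (f : S.X₁ ⟶ K) (n : K ⟶ Z) (pr : K ⟶ S.X₂) (z : f ≫ n = 0)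
      (hT : (ShortComplex.mk f n z).ShortExact),
      f ≫ pr = S.f ∧ pr ≫ S.g = n ≫ c ∧
        hT.extClass = (Ext.mk₀ c).comp hS.extClass (zero_add 1) := by
  haveI := hS.mono_f
  haveI := hS.epi_g
  let K := pullback S.g c
  let f : S.X₁ ⟶ K := pullback.lift S.f 0 (by simp)
  have hf : f ≫ pullback.fst S.g c = S.f := pullback.lift_fst _ _ _
  haveI : Mono f := mono_of_mono_fac hf
  have z : f ≫ pullback.snd S.g c = 0 := pullback.lift_snd _ _ _
  let T := ShortComplex.mk f _ z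
  have hTex : T.Exact := by
    refine T.exact_of_f_is_kernel (KernelFork.IsLimit.ofι' f z fun {A} x hx => ?_)
    have hx' : x ≫ pullback.snd S.g c = 0 := hx
    refine ⟨hS.exact.lift (x ≫ pullback.fst S.g c) (by
      rw [Category.assoc, pullback.condition, reassoc_of% hx', zero_comp]), ?_⟩
    apply pullback.hom_ext
    · rw [Category.assoc, hf]; exact hS.exact.lift_f _ _
    · rw [Category.assoc, z, comp_zero, hx']
  haveI : Epi T.g := inferInstanceAs (Epi (pullback.snd S.g c))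
  have hT : T.ShortExact := { exact := hTex }
  refine ⟨K, f, _, pullback.fst S.g c, z, hT, hf, pullback.condition, ?_⟩
  let φ : T ⟶ S :=
    { τ₁ := 𝟙 _, τ₂ := pullback.fst S.g c, τ₃ := c
      comm₁₂ := by simp [T, hf], comm₂₃ := pullback.condition }
  exact (Ext.comp_mk₀_id _).symm.trans (ShortComplex.ShortExact.extClass_naturality hT hS φ)

/-- If `S` is an extension with middle term killed by `m`, whose pullback along `i : Z → Q = Z/m` is the
pullback `T` of the multiplication by `m` on `G` along `bb`, then its class composed to `G` is minus the class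
of `Z → Z → Q` composed with `bb`. -/
theorem killed_ext_comp {A Z K G Q : C} (m : ℕ) {i : Z ⟶ Q} {zi : (m • 𝟙 Z) ≫ i = 0}
    (hZ : (ShortComplex.mk (m • 𝟙 Z) i zi).ShortExact)
    {fT : A ⟶ K} {n : K ⟶ Z} {zT : fT ≫ n = 0} (hT : (ShortComplex.mk fT n zT).ShortExact)
    (pr : K ⟶ G) (bb : Z ⟶ G) (hpr : m • pr = n ≫ bb)
    {S : ShortComplex C} (hS : S.ShortExact) (hm : m • 𝟙 S.X₂ = 0) (h : Q ⟶ S.X₃)
    (e : S.X₁ ≅ A) (hcl : hT.extClass.comp (Ext.mk₀ e.inv) (add_zero 1) =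
      (Ext.mk₀ (i ≫ h)).comp hS.extClass (zero_add 1)) :
    ((Ext.mk₀ h).comp hS.extClass (zero_add 1)).comp (Ext.mk₀ (e.hom ≫ fT ≫ pr)) (add_zero 1) =
      - hZ.extClass.comp (Ext.mk₀ bb) (add_zero 1) := by
  haveI := hS.mono_f
  haveI := hT.mono_f
  haveI : Mono (m • 𝟙 Z) := hZ.mono_f
  haveI : Epi n := hT.epi_g
  haveI : Epi i := hZ.epi_g
  -- a lift of `K → Q → S.X₃` to the middle of `S`
  obtain ⟨y, hy⟩ := Ext.covariant_sequence_exact₃ K hS (Ext.mk₀ (n ≫ i ≫ h)) (zero_add 1) (by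
    rw [← Ext.mk₀_comp_mk₀, Ext.comp_assoc_of_second_deg_zero, ← hcl,
      ← Ext.comp_assoc_of_third_deg_zero, hT.comp_extClass, Ext.zero_comp])
  obtain ⟨q₀, rfl⟩ := (Ext.mk₀_bijective _ _).2 y
  rw [Ext.mk₀_comp_mk₀] at hy
  have hq₀ : q₀ ≫ S.g = n ≫ i ≫ h := (Ext.mk₀_bijective _ _).1 hy
  let π₀ : A ⟶ S.X₁ := hS.exact.lift (fT ≫ q₀) (by rw [Category.assoc, hq₀, reassoc_of% zT, zero_comp])
  have hπ₀ : π₀ ≫ S.f = fT ≫ q₀ := hS.exact.lift_f _ _
  let φ₀ : ShortComplex.mk fT n zT ⟶ S :=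
    { τ₁ := π₀, τ₂ := q₀, τ₃ := i ≫ h, comm₁₂ := hπ₀, comm₂₃ := hq₀ }
  have h0 : hT.extClass.comp (Ext.mk₀ π₀) (add_zero 1) = hT.extClass.comp (Ext.mk₀ e.inv) (add_zero 1) :=
    (ShortComplex.ShortExact.extClass_naturality hT hS φ₀).trans hcl.symm
  obtain ⟨v₀, hv₀⟩ := Ext.contravariant_sequence_exact₁ hT S.X₁ (Ext.mk₀ (π₀ - e.inv)) (add_zero 1) (by
    rw [sub_eq_add_neg, Ext.mk₀_add, Ext.comp_add, Ext.mk₀_neg, Ext.comp_neg, ← sub_eq_add_neg,
      sub_eq_zero]
    exact h0)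
  obtain ⟨v, rfl⟩ := (Ext.mk₀_bijective _ _).2 v₀
  rw [Ext.mk₀_comp_mk₀] at hv₀
  have hv : fT ≫ v = π₀ - e.inv := (Ext.mk₀_bijective _ _).1 hv₀
  let q : K ⟶ S.X₂ := q₀ - v ≫ S.f
  have hqg : q ≫ S.g = n ≫ i ≫ h := by simp [q, hq₀, S.zero]
  have hqf : fT ≫ q = e.inv ≫ S.f := by
    simp only [q, Preadditive.comp_sub, ← Category.assoc, hv, Preadditive.sub_comp, hπ₀]
    abel
  -- the kernel of `K → Q`
  let κ : kernel (n ≫ i) ⟶ K := kernel.ι _
  have zκ : κ ≫ n ≫ i = 0 := kernel.condition _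
  have zU : κ ≫ (n ≫ i) = 0 := zκ
  haveI : Epi (n ≫ i) := epi_comp _ _
  have hU : (ShortComplex.mk κ (n ≫ i) zU).ShortExact := { exact := ShortComplex.exact_kernel _ }
  let k : kernel (n ≫ i) ⟶ Z := hZ.exact.lift (κ ≫ n) (by simp [zκ])
  have hk : k ≫ (m • 𝟙 Z) = κ ≫ n := hZ.exact.lift_f _ _
  let π : kernel (n ≫ i) ⟶ S.X₁ := hS.exact.lift (κ ≫ q) (by
    rw [Category.assoc, hqg, reassoc_of% zκ, zero_comp])
  have hπ : π ≫ S.f = κ ≫ q := hS.exact.lift_f _ _
  let φ₁ : ShortComplex.mk κ (n ≫ i) zU ⟶ S :=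
    { τ₁ := π, τ₂ := q, τ₃ := h, comm₁₂ := hπ, comm₂₃ := by simpa using hqg }
  let φ₂ : ShortComplex.mk κ (n ≫ i) zU ⟶ ShortComplex.mk (m • 𝟙 Z) i zi :=
    { τ₁ := k, τ₂ := n, τ₃ := 𝟙 Q, comm₁₂ := hk, comm₂₃ := by simp }
  have h1 : hU.extClass.comp (Ext.mk₀ π) (add_zero 1) = (Ext.mk₀ h).comp hS.extClass (zero_add 1) :=
    ShortComplex.ShortExact.extClass_naturality hU hS φ₁
  have h2 : hU.extClass.comp (Ext.mk₀ k) (add_zero 1) = hZ.extClass :=
    (ShortComplex.ShortExact.extClass_naturality hU hZ φ₂).trans (Ext.mk₀_id_comp _)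
  -- the identity on the kernel
  suffices hD : π ≫ e.hom ≫ fT ≫ pr + k ≫ bb = κ ≫ pr by
    rw [eq_neg_iff_add_eq_zero, ← h1, ← h2, Ext.comp_assoc_of_third_deg_zero,
      Ext.comp_assoc_of_third_deg_zero, Ext.mk₀_comp_mk₀, Ext.mk₀_comp_mk₀, ← Ext.comp_add,
      ← Ext.mk₀_add, hD, ← Ext.mk₀_comp_mk₀, ← Ext.comp_assoc_of_third_deg_zero, hU.extClass_comp,
      Ext.zero_comp]
  let a : A ⟶ kernel (n ≫ i) := kernel.lift _ fT (by rw [reassoc_of% zT, zero_comp])
  have ha : a ≫ κ = fT := kernel.lift_ι _ _ _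
  let μ : K ⟶ kernel (n ≫ i) := kernel.lift _ (m • 𝟙 K) (by
    have : n ≫ (m • 𝟙 Z) ≫ i = 0 := by rw [zi, comp_zero]
    simpa using this)
  have hμ : μ ≫ κ = m • 𝟙 K := kernel.lift_ι _ _ _
  have haπ : a ≫ π = e.inv := by
    rw [← cancel_mono S.f, Category.assoc, hπ, reassoc_of% ha, hqf]
  have hak : a ≫ k = 0 := by
    rw [← cancel_mono (m • 𝟙 Z), Category.assoc, hk, reassoc_of% ha, zT, zero_comp]
  have hμπ : μ ≫ π = 0 := by
    rw [← cancel_mono S.f, Category.assoc, hπ, reassoc_of% hμ, zero_comp, Preadditive.nsmul_comp,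
      Category.id_comp, ← Category.comp_id (m • q), Preadditive.nsmul_comp, ← Preadditive.comp_nsmul, hm,
      comp_zero]
  have hμk : μ ≫ k = n := by
    rw [← cancel_mono (m • 𝟙 Z), Category.assoc, hk, reassoc_of% hμ, Preadditive.nsmul_comp,
      Category.id_comp, Preadditive.comp_nsmul, Category.comp_id]
  haveI : Epi k := epi_of_epi_fac hμk
  haveI : Mono a := mono_of_mono_fac ha
  have hY : (ShortComplex.mk a k hak).Exact := by
    refine ShortComplex.exact_of_f_is_kernel _ (KernelFork.IsLimit.ofι' a hak fun {W} x hx => ?_)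
    have hx' : x ≫ k = 0 := hx
    have : (x ≫ κ) ≫ n = 0 := by rw [Category.assoc, ← hk, reassoc_of% hx', zero_comp]
    refine ⟨hT.exact.lift (x ≫ κ) this, ?_⟩
    rw [← cancel_mono κ, Category.assoc, ha]
    exact hT.exact.lift_f _ _
  rw [← sub_eq_zero]
  set D := π ≫ e.hom ≫ fT ≫ pr + k ≫ bb - κ ≫ pr with hDdef
  have hDa : a ≫ D = 0 := by
    simp [hDdef, Preadditive.comp_sub, reassoc_of% haπ, reassoc_of% hak, reassoc_of% ha]
  have hDμ : μ ≫ D = 0 := by
    simp [hDdef, Preadditive.comp_sub, reassoc_of% hμπ, reassoc_of% hμk, reassoc_of% hμ, hpr]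
  haveI : Epi (ShortComplex.mk a k hak).g := inferInstanceAs (Epi k)
  have hd : k ≫ hY.desc D hDa = D := hY.g_desc _ _
  have : n ≫ hY.desc D hDa = 0 :=
    (congrArg (· ≫ hY.desc D hDa) hμk).symm.trans
      ((Category.assoc _ _ _).trans ((congrArg (μ ≫ ·) hd).trans hDμ))
  rw [← hd, (cancel_epi n).1 (this.trans comp_zero.symm), comp_zero]

end Groth.Agent.GalNorm
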