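import Groth.Prelude.Def_SixF2
import Groth.Prelude.Def_GSzGalSym
import Groth.Agent.GalNorm.Abst
import Groth.Agent.EtMV.Inst

/-!
Cohomology of sheaves of `ℤ/m`-modules against cohomology of the underlying abelian sheaves, in degrees one and two.
-/

set_option autoImplicit false
set_option backward.isDefEq.respectTransparency false
set_option backward.isDefEq.respectTransparency.types false
set_option linter.style.haveILetI false

universe u

open CategoryTheory CategoryTheory.Limits CategoryTheory.Abelian AlgebraicGeometry Opposite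

noncomputable section

namespace Groth.Agent.GalNorm

attribute [local instance 100000] EtCoh.H._proof_1 EtMV.hext
attribute [local instance 200000] EtMV.hextAb

variable {m : ℕ} {X : Scheme.{u}}


theorem nsmul_sect_eq_zero (F : EtModW.Mod (GalSym.Coef.{u} m) X) {V : X.Etaleᵒᵖ} (x : F.obj.obj V) : m • x = 0 := by
  rw [← Nat.cast_smul_eq_nsmul (GalSym.Coef.{u} m), show (m : (GalSym.Coef.{u} m)) = 0 from ULift.ext _ _ (by simp), zero_smul]

theorem nsmul_id_eq_zero (F : EtModW.Mod (GalSym.Coef.{u} m) X) : m • 𝟙 ((EtModD.forgetToAb (GalSym.Coef.{u} m) X).obj F) = 0 := by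
  apply ObjectProperty.hom_ext
  apply NatTrans.ext
  funext V
  apply AddCommGrpCat.ext
  intro x
  change (m • 𝟙 ((EtModD.forgetToAb (GalSym.Coef.{u} m) X).obj F)).hom.app V x = 0
  exact nsmul_sect_eq_zero F x

/-- The forgetful functor to abelian sheaves is full. -/
theorem exists_map_eq {F G : EtModW.Mod (GalSym.Coef.{u} m) X} (f : (EtModD.forgetToAb (GalSym.Coef.{u} m) X).obj F ⟶ (EtModD.forgetToAb (GalSym.Coef.{u} m) X).obj G) : ∃ g : F ⟶ G, (EtModD.forgetToAb (GalSym.Coef.{u} m) X).map g = f := by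
  let a : ∀ V : X.Etaleᵒᵖ, F.obj.obj V →+ G.obj.obj V := fun V => (f.hom.app V).hom
  have hlin : ∀ (V : X.Etaleᵒᵖ) (r : (GalSym.Coef.{u} m)) (x : F.obj.obj V),
      a V (r • x) = r • a V x := fun V r x => by
    obtain ⟨r⟩ := r
    obtain ⟨n, hn⟩ := ZMod.intCast_surjective r
    subst hn
    rw [show (ULift.up (n : ZMod m) : (GalSym.Coef.{u} m)) = (n : (GalSym.Coef.{u} m)) from ULift.ext _ _ (by simp), Int.cast_smul_eq_zsmul,
      Int.cast_smul_eq_zsmul]
    exact map_zsmul (a V) n x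
  let L : ∀ V, F.obj.obj V →ₗ[(GalSym.Coef.{u} m)] G.obj.obj V := fun V =>
    { toFun := fun x => a V x, map_add' := fun x y => map_add (a V) x y,
      map_smul' := hlin V }
  refine ⟨⟨{ app := fun V => ModuleCat.ofHom (L V), naturality := fun V W k => ?_ }⟩, ?_⟩
  · apply ModuleCat.hom_ext
    apply LinearMap.ext
    exact fun x => ConcreteCategory.congr_hom (f.hom.naturality k) x
  · apply ObjectProperty.hom_ext
    apply NatTrans.ext
    funext V
    apply AddCommGrpCat.ext
    intro x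
    rfl

/-- An abelian sheaf killed by `m` is a sheaf of `ℤ/m`-modules. -/
theorem exists_lift (G : EtCoh.Ab X) (h : m • 𝟙 G = 0) : ∃ F : EtModW.Mod (GalSym.Coef.{u} m) X, Nonempty ((EtModD.forgetToAb (GalSym.Coef.{u} m) X).obj F ≅ G) := by
  have hk : ∀ (V : X.Etaleᵒᵖ) (x : G.obj.obj V), m • x = 0 := fun V x => by
    have := ConcreteCategory.congr_hom (congr_app (congrArg (fun z => z.hom) h) V) x
    exact this
  letI : ∀ V, Module (ZMod m) (G.obj.obj V) := fun V => AddCommGroup.zmodModule (hk V)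
  let P : X.Etaleᵒᵖ ⥤ ModuleCat.{u + 1} (GalSym.Coef.{u} m) :=
    { obj := fun V => ModuleCat.of (GalSym.Coef.{u} m) (G.obj.obj V)
      map := fun {V W} k => ModuleCat.ofHom
        { toFun := fun x => (G.obj.map k).hom x
          map_add' := fun x y => map_add (G.obj.map k).hom x y
          map_smul' := fun r x => ZMod.map_smul (G.obj.map k).hom r.down x }
      map_id := fun V => ModuleCat.hom_ext (LinearMap.ext fun x => by simp)
      map_comp := fun k l => ModuleCat.hom_ext (LinearMap.ext fun x => by simp) }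
  have e : P ⋙ forget₂ (ModuleCat.{u + 1} (GalSym.Coef.{u} m)) AddCommGrpCat.{u + 1} = G.obj := rfl
  have hP : Presheaf.IsSheaf X.smallEtaleTopology P :=
    (Presheaf.isSheaf_iff_isSheaf_comp _ P (forget₂ (ModuleCat.{u + 1} (GalSym.Coef.{u} m)) AddCommGrpCat.{u + 1})).2 (e ▸ G.property)
  exact ⟨⟨P, hP⟩, ⟨Iso.refl _⟩⟩

/-- Maps out of `Λ_X` are sections of the underlying abelian sheaf. -/
theorem constΛ_hom_bijective (F : EtModW.Mod (GalSym.Coef.{u} m) X) :
    Function.Bijective (fun h : EtSix.constΛ (GalSym.Coef.{u} m) X ⟶ F => EtSix.intToConstΛ (GalSym.Coef.{u} m) X ≫ (EtModD.forgetToAb (GalSym.Coef.{u} m) X).map h) := by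
  let M := ModuleCat.of (GalSym.Coef.{u} m) (GalSym.Coef.{u} m)
  let a := EtSix.constModAdj (GalSym.Coef.{u} m) X
  let S := (EtSix.gsecMod (GalSym.Coef.{u} m) X).obj F
  let ev : (M ⟶ S) → S := fun φ => φ.hom (1 : (GalSym.Coef.{u} m))
  have hev : Function.Bijective ev := by
    refine ⟨fun φ ψ h => ModuleCat.hom_ext (LinearMap.ext_ring h), fun s =>
      ⟨ModuleCat.ofHom (LinearMap.toSpanSingleton (GalSym.Coef.{u} m) S s), one_smul _ _⟩⟩
  let evZ : (AddCommGrpCat.of (ULift.{u + 1} ℤ) ⟶ (EtCore.gsec X).obj ((EtModD.forgetToAb (GalSym.Coef.{u} m) X).obj F)) →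
      (EtCore.gsec X).obj ((EtModD.forgetToAb (GalSym.Coef.{u} m) X).obj F) := fun φ => φ (ULift.up 1)
  have hevZ : Function.Bijective evZ := by
    refine ⟨fun φ ψ h => ?_, fun s => ⟨AddCommGrpCat.ofHom ((zmultiplesHom _ s).comp
      (AddEquiv.ulift (α := ℤ)).toAddMonoidHom), one_zsmul s⟩⟩
    ext ⟨n⟩
    have : (ULift.up n : ULift.{u + 1} ℤ) = n • ULift.up 1 := by ext; simp
    rw [this, map_zsmul, map_zsmul]
    exact congrArg _ h
  have hl : Function.Bijective (evZ ∘ ((EtCore.constAdj X).homEquiv _ _)) := hevZ.comp (Equiv.bijective _)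
  refine (Function.Bijective.of_comp_iff' hl _).1 ?_
  have hr : Function.Bijective (ev ∘ (a.homEquiv M F)) := hev.comp (Equiv.bijective _)
  refine (congrArg Function.Bijective (funext fun h => ?_)).mp hr
  change ev (a.homEquiv M F h) = evZ ((EtCore.constAdj X).homEquiv _ _ (EtSix.intToConstΛ (GalSym.Coef.{u} m) X ≫ (EtModD.forgetToAb (GalSym.Coef.{u} m) X).map h))
  rw [Adjunction.homEquiv_naturality_right, EtSix.intToConstΛ, Equiv.apply_symm_apply, a.homEquiv_unit]
  exact (congrArg (fun z => (((EtModD.forgetToAb (GalSym.Coef.{u} m) X).map h).hom.app (op (EtCoh.top X))) z) (one_zsmul _)).symm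

section

variable [PreservesFiniteLimits (EtModD.forgetToAb (GalSym.Coef.{u} m) X)] [PreservesFiniteColimits (EtModD.forgetToAb (GalSym.Coef.{u} m) X)] [(EtModD.forgetToAb (GalSym.Coef.{u} m) X).Additive]

theorem HModToH_comp {F G : EtModW.Mod (GalSym.Coef.{u} m) X} {a b c : ℕ} (α : EtSix.HMod (GalSym.Coef.{u} m) X F a) (β : Ext.{u + 1} F G b)
    (h : a + b = c) :
    EtSix.HModToH (GalSym.Coef.{u} m) G c (α.comp β h) = (EtSix.HModToH (GalSym.Coef.{u} m) F a α).comp (β.mapExactFunctor (EtModD.forgetToAb (GalSym.Coef.{u} m) X)) h := by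
  change (Ext.mk₀ (EtSix.intToConstΛ (GalSym.Coef.{u} m) X)).comp ((α.comp β h).mapExactFunctor _) (zero_add c) =
    ((Ext.mk₀ (EtSix.intToConstΛ (GalSym.Coef.{u} m) X)).comp (α.mapExactFunctor _) (zero_add a)).comp _ h
  rw [Ext.mapExactFunctor_comp, Ext.comp_assoc _ _ _ (zero_add a) h (by omega)]

theorem HModToH_mk₀ {F : EtModW.Mod (GalSym.Coef.{u} m) X} (f : EtSix.constΛ (GalSym.Coef.{u} m) X ⟶ F) :
    EtSix.HModToH (GalSym.Coef.{u} m) F 0 (Ext.mk₀ f) = Ext.mk₀ (EtSix.intToConstΛ (GalSym.Coef.{u} m) X ≫ (EtModD.forgetToAb (GalSym.Coef.{u} m) X).map f) := by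
  change (Ext.mk₀ (EtSix.intToConstΛ (GalSym.Coef.{u} m) X)).comp ((Ext.mk₀ f).mapExactFunctor _) (zero_add 0) = _
  rw [Ext.mapExactFunctor_mk₀]
  exact Ext.mk₀_comp_mk₀ _ _

variable [EnoughInjectives (EtModW.Mod (GalSym.Coef.{u} m) X)]

/-- A degree one class is a pushed class of an injective embedding. -/
theorem exists_inj_rep {F : EtModW.Mod (GalSym.Coef.{u} m) X} (w : EtSix.HMod (GalSym.Coef.{u} m) X F 1) :
    ∃ (S : ShortComplex (EtModW.Mod (GalSym.Coef.{u} m) X)) (hS : S.ShortExact) (_ : Injective S.X₂) (e : S.X₁ ≅ F)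
      (f : EtSix.constΛ (GalSym.Coef.{u} m) X ⟶ S.X₃),
      w = ((Ext.mk₀ f).comp hS.extClass (zero_add 1)).comp (Ext.mk₀ e.hom) (add_zero 1) := by
  let i := Injective.ι F
  let S := ShortComplex.mk i (cokernel.π i) (cokernel.condition i)
  have hS : S.ShortExact := { exact := ShortComplex.exact_cokernel i }
  obtain ⟨y, hy⟩ := Ext.covariant_sequence_exact₁ _ hS w (Ext.eq_zero_of_injective _) (zero_add 1)
  obtain ⟨f, rfl⟩ := (Ext.mk₀_bijective _ _).2 y
  exact ⟨S, hS, inferInstanceAs (Injective (Injective.under F)), Iso.refl _, f, by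
    rw [← hy]; exact (Ext.comp_mk₀_id _).symm⟩

/-- The comparison map is injective in degree one. -/
theorem injective_HModToH_one {F : EtModW.Mod (GalSym.Coef.{u} m) X} (w : EtSix.HMod (GalSym.Coef.{u} m) X F 1)
    (hw : EtSix.HModToH (GalSym.Coef.{u} m) F 1 w = 0) : w = 0 := by
  obtain ⟨S, hS, -, e, f, rfl⟩ := exists_inj_rep w
  rw [HModToH_comp, HModToH_comp, HModToH_mk₀, Ext.mapExactFunctor_extClass, Ext.mapExactFunctor_mk₀] at hw
  have hw' := congrArg (fun z => Ext.comp z (Ext.mk₀ ((EtModD.forgetToAb (GalSym.Coef.{u} m) X).map e.inv)) (add_zero 1)) hw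
  rw [Ext.comp_assoc_of_third_deg_zero, Ext.mk₀_comp_mk₀, ← Functor.map_comp, e.hom_inv_id, CategoryTheory.Functor.map_id,
    Ext.comp_mk₀_id, Ext.zero_comp] at hw'
  obtain ⟨y, hy⟩ := Ext.covariant_sequence_exact₃ _ (hS.map_of_exact (EtModD.forgetToAb (GalSym.Coef.{u} m) X)) _ (zero_add 1) hw'
  obtain ⟨h, rfl⟩ := (Ext.mk₀_bijective _ _).2 y
  obtain ⟨h', rfl⟩ := (constΛ_hom_bijective S.X₂).2 h
  rw [Ext.mk₀_comp_mk₀] at hy
  have h1 := (Ext.mk₀_bijective _ _).1 hy
  have : h' ≫ S.g = f := (constΛ_hom_bijective S.X₃).1 (by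
    change EtSix.intToConstΛ _ X ≫ (EtModD.forgetToAb (GalSym.Coef.{u} m) X).map (h' ≫ S.g) = _
    rw [Functor.map_comp, ← Category.assoc]
    exact h1)
  rw [← this, ← Ext.mk₀_comp_mk₀, Ext.comp_assoc_of_second_deg_zero, hS.comp_extClass, Ext.comp_zero,
    Ext.zero_comp]

/-- The first cohomology of the abelian sheaf underlying an injective vanishes. -/
theorem H1_forget_injective (hmono : Mono (m • 𝟙 (EtCoh.const X ℤ))) (I : EtModW.Mod (GalSym.Coef.{u} m) X) [Injective I]
    (η : Ext.{u + 1} (EtCoh.const X ℤ) ((EtModD.forgetToAb (GalSym.Coef.{u} m) X).obj I) 1) : η = 0 := by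
  haveI : EnoughInjectives (EtCoh.Ab X) := inferInstance
  let J := Injective.ι ((EtModD.forgetToAb (GalSym.Coef.{u} m) X).obj I)
  let S := ShortComplex.mk J (cokernel.π J) (cokernel.condition J)
  have hS : S.ShortExact := { exact := ShortComplex.exact_cokernel J }
  obtain ⟨y, hy⟩ := Ext.covariant_sequence_exact₁ _ hS η (Ext.eq_zero_of_injective _) (zero_add 1)
  obtain ⟨c, rfl⟩ := (Ext.mk₀_bijective _ _).2 y
  obtain ⟨E, f, n, pr, z, hT, -, -, hcl⟩ := exists_pullback_ext hS c
  rw [← hy, ← hcl]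
  let π : E ⟶ cokernel (m • 𝟙 E) := cokernel.π _
  have hk : m • 𝟙 (cokernel (m • 𝟙 E)) = 0 := by
    rw [← cancel_epi π, comp_zero, Preadditive.comp_nsmul, Category.comp_id]
    have := cokernel.condition (m • 𝟙 E)
    rwa [Preadditive.nsmul_comp, Category.id_comp] at this
  obtain ⟨Q, ⟨eQ⟩⟩ := exists_lift _ hk
  have hmono' : Mono (f ≫ π) := by
    refine Preadditive.mono_of_cancel_zero _ fun {W} k hk' => ?_
    let S' := ShortComplex.mk (m • 𝟙 E) π (cokernel.condition _)
    obtain ⟨W', p, hp, x, hx⟩ := (ShortComplex.exact_cokernel (m • 𝟙 E)).exact_up_to_refinements (k ≫ f)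
      ((Category.assoc _ _ _).trans hk')
    have hx' : p ≫ k ≫ f = x ≫ (m • 𝟙 E) := hx
    have hxn : x ≫ n = 0 := by
      rw [← cancel_mono (m • 𝟙 (EtCoh.const X ℤ)), zero_comp]
      have := congrArg (· ≫ n) hx'
      simp only [Category.assoc, z, comp_zero, Preadditive.comp_nsmul, Preadditive.nsmul_comp,
        Category.comp_id, Category.id_comp] at this ⊢
      exact this.symm
    haveI := hT.mono_f
    have hx2 : hT.exact.lift x hxn ≫ f = x := hT.exact.lift_f x hxn
    rw [← cancel_epi p, comp_zero]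
    rw [← hx2, Category.assoc, Preadditive.comp_nsmul, Category.comp_id, ← Category.assoc] at hx'
    rw [← cancel_mono f, hx', zero_comp]
    have h0 : m • f = 0 :=
      (congrArg (m • ·) (Category.id_comp f)).symm.trans
        (((Preadditive.nsmul_comp (𝟙 ((EtModD.forgetToAb (GalSym.Coef.{u} m) X).obj I)) f m).symm).trans
          ((congrArg (· ≫ f) (nsmul_id_eq_zero I)).trans zero_comp))
    rw [h0, comp_zero]
  obtain ⟨ι', hι'⟩ := exists_map_eq (f ≫ π ≫ eQ.inv)
  haveI : Mono ι' := by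
    haveI : Mono ((EtModD.forgetToAb (GalSym.Coef.{u} m) X).map ι') := by
      rw [hι', ← Category.assoc]
      infer_instance
    exact (EtModD.forgetToAb (GalSym.Coef.{u} m) X).mono_of_mono_map ‹_›
  let r : Q ⟶ I := Injective.factorThru (𝟙 I) ι'
  have hr : f ≫ (π ≫ eQ.inv ≫ (EtModD.forgetToAb (GalSym.Coef.{u} m) X).map r) = 𝟙 _ := by
    have := congrArg (· ≫ (EtModD.forgetToAb (GalSym.Coef.{u} m) X).map r) hι'
    simp only [Category.assoc, ← Functor.map_comp, r, Injective.comp_factorThru, CategoryTheory.Functor.map_id] at this ⊢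
    exact this.symm
  have h2 := congrArg (fun g => hT.extClass.comp (Ext.mk₀ g) (add_zero 1)) hr
  rw [← Ext.mk₀_comp_mk₀, ← Ext.comp_assoc_of_third_deg_zero, hT.extClass_comp, Ext.zero_comp] at h2
  exact ((Ext.comp_mk₀_id _).symm.trans h2.symm)

/-- The comparison map is injective in degree two. -/
theorem injective_HModToH_two (hmono : Mono (m • 𝟙 (EtCoh.const X ℤ))) {F : EtModW.Mod (GalSym.Coef.{u} m) X}
    (z : EtSix.HMod (GalSym.Coef.{u} m) X F 2) (hz : EtSix.HModToH (GalSym.Coef.{u} m) F 2 z = 0) : z = 0 := by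
  let i := Injective.ι F
  let S := ShortComplex.mk i (cokernel.π i) (cokernel.condition i)
  have hS : S.ShortExact := { exact := ShortComplex.exact_cokernel i }
  haveI : Injective S.X₂ := inferInstanceAs (Injective (Injective.under F))
  obtain ⟨w, hw⟩ := Ext.covariant_sequence_exact₁ _ hS z (Ext.eq_zero_of_injective _) (rfl : 1 + 1 = 2)
  rw [← hw, HModToH_comp, Ext.mapExactFunctor_extClass] at hz
  obtain ⟨v, hv⟩ := Ext.covariant_sequence_exact₃ _ (hS.map_of_exact (EtModD.forgetToAb (GalSym.Coef.{u} m) X)) _ (rfl : 1 + 1 = 2) hz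
  rw [H1_forget_injective hmono _ v, Ext.zero_comp] at hv
  rw [← hw, injective_HModToH_one w hv.symm, Ext.zero_comp]

end

end Groth.Agent.GalNorm
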