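import Groth.Agent.GalNorm.Sect
import Groth.Agent.GalNorm.Comp
import Groth.Agent.EtTrivGen.Const
import Groth.Agent.EtTrivGen.Pull
import Groth.Agent.EtMV.ConstSect
import Groth.Agent.EtMV.Base
import Groth.Agent.EtMV.ConstUnit
import Mathlib.RingTheory.RootsOfUnity.PrimitiveRoots
import Mathlib.Algebra.Category.ModuleCat.FilteredColimits

/-!
The sequence `Z → Z → ℤ/m` of constant etale sheaves, and `ℤ/m ≅ μ_m` over a field containing the roots of unity.
-/

set_option autoImplicit false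
set_option backward.isDefEq.respectTransparency false
set_option backward.isDefEq.respectTransparency.types false
set_option linter.style.haveILetI false

universe u

open CategoryTheory CategoryTheory.Limits AlgebraicGeometry Opposite

noncomputable section

namespace Groth.Agent.GalNorm

attribute [local instance 100000] EtCoh.H._proof_1 EtMV.hext
attribute [local instance 200000] EtMV.hextAb

section

variable (m : ℕ) {X : Scheme.{u}}

/-- The constant section of `Λ_X`. -/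
def cstM (W : X.Etale) (r : GalSym.Coef.{u} m) :
    EtCoh.sect ((EtModD.forgetToAb (GalSym.Coef.{u} m) X).obj (EtSix.constΛ (GalSym.Coef.{u} m) X)) W :=
  EtTrivGen.cst (ModuleCat.of (GalSym.Coef.{u} m) (GalSym.Coef.{u} m)) W r

theorem res_cstM {W V : X.Etale} (g : V ⟶ W) (r : GalSym.Coef.{u} m) :
    EtFLC.res _ g (cstM m W r) = cstM m V r :=
  EtTrivGen.cst_res (ModuleCat.of (GalSym.Coef.{u} m) (GalSym.Coef.{u} m)) g r

theorem cstM_zsmul (W : X.Etale) (n : ℤ) (r : GalSym.Coef.{u} m) : cstM m W (n • r) = n • cstM m W r :=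
  map_zsmul (EtTrivGen.cst (ModuleCat.of (GalSym.Coef.{u} m) (GalSym.Coef.{u} m)) W).hom n r

theorem cstM_zero (W : X.Etale) : cstM m W 0 = 0 :=
  map_zero (EtTrivGen.cst (ModuleCat.of (GalSym.Coef.{u} m) (GalSym.Coef.{u} m)) W).hom

theorem exists_cstM {W : X.Etale}
    (s : EtCoh.sect ((EtModD.forgetToAb (GalSym.Coef.{u} m) X).obj (EtSix.constΛ (GalSym.Coef.{u} m) X)) W)
    (w : W.left) : ∃ (Z : X.Etale) (h : Z ⟶ W) (z : Z.left) (r : GalSym.Coef.{u} m),
      h.left z = w ∧ EtFLC.res _ h s = cstM m Z r := by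
  let P : X.Etaleᵒᵖ ⥤ ModuleCat.{u + 1} (GalSym.Coef.{u} m) :=
    (Functor.const _).obj (ModuleCat.of (GalSym.Coef.{u} m) (GalSym.Coef.{u} m))
  haveI : Presheaf.IsLocallySurjective X.smallEtaleTopology (toSheafify X.smallEtaleTopology P) := inferInstance
  obtain ⟨Z, h, z, ⟨r, hr⟩, hz⟩ := (EtFLC.mem_iff _).1
    (Presheaf.imageSieve_mem X.smallEtaleTopology (toSheafify X.smallEtaleTopology P) s) w
  exact ⟨Z, h, z, r, hz, hr.symm⟩

theorem cstM_inj {W : X.Etale} (w : W.left) {r r' : GalSym.Coef.{u} m} (h : cstM m W r = cstM m W r') : r = r' := by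
  obtain ⟨Ω, _, _, ξ, x, -⟩ := EtTrivGen.exists_point_at w
  have h' : EtTrivGen.cst (X := X) (ModuleCat.of (GalSym.Coef.{u} m) (GalSym.Coef.{u} m)) W r =
      EtTrivGen.cst (ModuleCat.of (GalSym.Coef.{u} m) (GalSym.Coef.{u} m)) W r' := h
  exact (EtTrivGen.bijective_germ_cst (ModuleCat.of (GalSym.Coef.{u} m) (GalSym.Coef.{u} m)) ξ x).1
    (congrArg (fun t => (Scheme.pointSmallEtale ξ).toPresheafFiber W x
      ((constantSheaf X.smallEtaleTopology (ModuleCat.{u + 1} (GalSym.Coef.{u} m))).obj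
        (ModuleCat.of (GalSym.Coef.{u} m) (GalSym.Coef.{u} m))).obj t) h')

theorem int_eq_zsmul_one (W : X.Etale) (n : ℤ) :
    EtMV.cst (X := X) W n = n • EtFLC.res _ (EtMV.toTop W) (EtMV.one X) := by
  have h1 : EtMV.one X = EtMV.cst (EtCoh.top X) (1 : ℤ) := EtMV.constAdj_unit_apply X (1 : ℤ)
  rw [h1, EtMV.res_cst]
  let φ := ((toSheafify X.smallEtaleTopology (EtMV.cPre0 X ℤ)).app (op W)).hom
  change φ ⟨n⟩ = n • φ ⟨1⟩
  rw [← map_zsmul φ]
  congr 1
  exact ULift.ext _ _ (by simp)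

theorem sapp_intToConstΛ (W : X.Etale) (n : ℤ) :
    sapp (EtSix.intToConstΛ (GalSym.Coef.{u} m) X) (EtMV.cst W n) = cstM m W (n : GalSym.Coef.{u} m) := by
  have hone : sapp (EtSix.intToConstΛ (GalSym.Coef.{u} m) X) (EtMV.one X) = cstM m (EtCoh.top X) 1 := by
    change EtMV.κ (EtSix.intToConstΛ (GalSym.Coef.{u} m) X) = _
    change (EtCore.constAdj X).homEquiv _ _ (EtSix.intToConstΛ (GalSym.Coef.{u} m) X) (ULift.up 1) = _
    rw [EtSix.intToConstΛ, Equiv.apply_symm_apply]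
    refine (one_zsmul _).trans ?_
    simp only [EtSix.constModAdj, constantSheafAdj, Adjunction.comp_unit_app, constantPresheafAdj]
    rfl
  rw [int_eq_zsmul_one, sapp, map_zsmul, EtFLC.app_res, show ((EtSix.intToConstΛ (GalSym.Coef.{u} m) X).hom.app
    (op (EtCoh.top X))).hom (EtMV.one X) = cstM m (EtCoh.top X) 1 from hone, res_cstM, ← cstM_zsmul, zsmul_one]

variable {m}

theorem mono_nsmul_int (hm : m ≠ 0) : Mono (m • 𝟙 (EtCoh.const X ℤ)) := by
  refine mono_of_injective _ fun V s t h => ?_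
  have h' : m • (s - t) = 0 := by rw [nsmul_sub, sub_eq_zero]; exact h
  rw [← sub_eq_zero]
  refine EtFLC.sect_ext _ fun v => ?_
  obtain ⟨Z, g, z, n, hz, hn⟩ := EtMV.exists_cst (s - t) v
  refine ⟨Z, g, z, hz, ?_⟩
  have h2 : (m : ℤ) • EtMV.cst (X := X) Z n = EtMV.cst Z (0 : ℤ) := by
    rw [← hn, natCast_zsmul, ← map_nsmul, h', map_zero, int_eq_zsmul_one, zero_zsmul]
  rw [int_eq_zsmul_one, smul_smul, ← int_eq_zsmul_one] at h2
  have := EtMV.cst_inj z h2
  rcases mul_eq_zero.1 this with h3 | h3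
  · exact absurd (Int.natCast_eq_zero.1 h3) hm
  · rw [hn, h3, map_zero, int_eq_zsmul_one, zero_zsmul]

theorem int_sequence_zero : (m • 𝟙 (EtCoh.const X ℤ)) ≫ EtSix.intToConstΛ (GalSym.Coef.{u} m) X = 0 := by
  have h := nsmul_id_eq_zero (m := m) (EtSix.constΛ (GalSym.Coef.{u} m) X)
  rw [Preadditive.nsmul_comp, Category.id_comp]
  exact (congrArg (m • ·) (Category.comp_id (EtSix.intToConstΛ (GalSym.Coef.{u} m) X))).symm.trans
    ((Preadditive.comp_nsmul _ _ m).symm.trans ((congrArg (_ ≫ ·) h).trans comp_zero))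

/-- `0 → ℤ → ℤ → ℤ/m → 0`. -/
theorem int_sequence (hm : m ≠ 0) :
    (ShortComplex.mk (m • 𝟙 (EtCoh.const X ℤ)) (EtSix.intToConstΛ (GalSym.Coef.{u} m) X)
      int_sequence_zero).ShortExact := by
  haveI := mono_nsmul_int (X := X) hm
  haveI : Epi (EtSix.intToConstΛ (GalSym.Coef.{u} m) X) := by
    refine epi_of_local _ fun V s v => ?_
    obtain ⟨Z, g, z, r, hz, hr⟩ := exists_cstM m s v
    obtain ⟨n, hn⟩ : ∃ n : ℤ, (n : GalSym.Coef.{u} m) = r := by
      obtain ⟨n, hn⟩ := ZMod.intCast_surjective r.down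
      exact ⟨n, ULift.ext _ _ (by simpa using hn)⟩
    exact ⟨Z, g, z, EtMV.cst Z n, hz, by rw [sapp_intToConstΛ, hn, hr]⟩
  refine { exact := exact_of_local _ _ _ fun V s hs v => ?_ }
  obtain ⟨Z, g, z, n, hz, hn⟩ := EtMV.exists_cst s v
  have h0 : cstM m Z (n : GalSym.Coef.{u} m) = cstM m Z 0 := by
    rw [cstM_zero, ← sapp_intToConstΛ, ← hn]
    exact (EtFLC.app_res _ g s).trans ((congrArg _ hs).trans (map_zero _))
  have h1 : (n : ZMod m) = 0 := by simpa using congrArg ULift.down (cstM_inj m z h0)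
  obtain ⟨k, rfl⟩ := (ZMod.intCast_zmod_eq_zero_iff_dvd n m).1 h1
  refine ⟨Z, g, z, EtMV.cst Z k, hz, ?_⟩
  rw [sapp_nsmul_id, hn, int_eq_zsmul_one, int_eq_zsmul_one Z (_ * k), mul_zsmul', natCast_zsmul, smul_comm]

end

end Groth.Agent.GalNorm
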