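import Mathlib.FieldTheory.KummerExtension

/-! The generator of a Kummer extension. -/

set_option autoImplicit false

open Polynomial

namespace Groth.Agent.GalNorm

theorem exists_kummer_gen (K L : Type*) [Field K] [Field L] [Algebra K L] [FiniteDimensional K L] (m : ℕ)
    (ω : K) (hω : IsPrimitiveRoot ω m) (a : K) (α : L) (hα : α ^ m = algebraMap K L a)
    (htop : IntermediateField.adjoin K {α} = ⊤) (hdeg : Module.finrank K L = m) :
    IsGalois K L ∧ ∃ g : L ≃ₐ[K] L, (∀ x : L ≃ₐ[K] L, x ∈ Subgroup.zpowers g) ∧ g α = algebraMap K L ω * α := by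
  subst hdeg
  haveI : NeZero (Module.finrank K L) := ⟨Module.finrank_pos.ne'⟩
  have hζ : (primitiveRoots (Module.finrank K L) K).Nonempty :=
    ⟨ω, (mem_primitiveRoots Module.finrank_pos).2 hω⟩
  have H := irreducible_X_pow_sub_C_of_root_adjoin_eq_top hα htop
  haveI := isSplittingField_X_pow_sub_C_of_root_adjoin_eq_top hζ hα htop
  refine ⟨isGalois_of_isSplittingField_X_pow_sub_C hζ H L,
    (autEquivZmod H L hω).symm (Multiplicative.ofAdd ((1 : ℕ) : ZMod (Module.finrank K L))), fun x => ?_, ?_⟩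
  · refine ⟨((Multiplicative.toAdd (autEquivZmod H L hω x)).val : ℤ), ?_⟩
    apply (autEquivZmod H L hω).injective
    simp only [zpow_natCast, map_pow, MulEquiv.apply_symm_apply, ← ofAdd_nsmul, nsmul_eq_mul, Nat.cast_one,
      mul_one, ZMod.natCast_zmod_val, ofAdd_toAdd]
  · rw [autEquivZmod_symm_apply_natCast H L hα hω 1, pow_one, Algebra.smul_def]

end Groth.Agent.GalNorm
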