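import Mathlib.Algebra.FreeAbelianGroup.Finsupp
import Mathlib.GroupTheory.SpecificGroups.Cyclic

/-! Invariant elements of a free abelian group under a free action of a finite cyclic group. -/

set_option autoImplicit false

open scoped Classical

namespace Groth.Agent.GalNorm

variable {T : Type*} {G : Type*} [Group G] [Fintype G]

theorem coeff_map {φ : T → T} (hφ : Function.Injective φ) (t : T) (f : FreeAbelianGroup T) :
    FreeAbelianGroup.coeff (φ t) (FreeAbelianGroup.map φ f) = FreeAbelianGroup.coeff t f := by
  induction f using FreeAbelianGroup.induction_on with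
  | zero => simp
  | of x =>
    rw [FreeAbelianGroup.map_of_apply]
    simp only [FreeAbelianGroup.coeff, AddMonoidHom.coe_comp, Function.comp_apply,
      FreeAbelianGroup.toFinsupp_of, Finsupp.applyAddHom_apply, Finsupp.single_apply, hφ.eq_iff]
  | neg x hx => simp only [map_neg, hx]
  | add x y hx hy => simp only [map_add, hx, hy]

theorem coeff_of' (t x : T) :
    FreeAbelianGroup.coeff t (FreeAbelianGroup.of x) = if x = t then 1 else 0 := by
  simp only [FreeAbelianGroup.coeff, AddMonoidHom.coe_comp, Function.comp_apply,
    FreeAbelianGroup.toFinsupp_of, Finsupp.applyAddHom_apply, Finsupp.single_apply]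

/-- The orbit sum. -/
noncomputable def orbit (act : T → G → T) (t : T) : FreeAbelianGroup T := ∑ g, FreeAbelianGroup.of (act t g)

theorem coeff_orbit (act : T → G → T) (hfree : ∀ t, Function.Injective (act t)) (t : T) (x : T) :
    FreeAbelianGroup.coeff x (orbit act t) = if x ∈ Set.range (act t) then 1 else 0 := by
  rw [orbit, map_sum]
  simp only [coeff_of']
  split_ifs with h
  · obtain ⟨g, rfl⟩ := h
    rw [Finset.sum_eq_single g (fun b _ hb => if_neg fun e => hb (hfree t e)) (by simp), if_pos rfl]
  · exact Finset.sum_eq_zero fun g _ => if_neg fun e => h ⟨g, e⟩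

/-- An element invariant under a generator of a free action is a combination of orbit sums. -/
theorem exists_orbit_sum (act : T → G → T) (hone : ∀ t, act t 1 = t)
    (hmul : ∀ t a b, act (act t a) b = act t (a * b)) (hfree : ∀ t, Function.Injective (act t))
    (σ : G) (hσ : ∀ g : G, g ∈ Subgroup.zpowers σ) :
    ∀ (f : FreeAbelianGroup T), FreeAbelianGroup.map (fun t => act t σ) f = f →
      ∃ y : FreeAbelianGroup T, f = FreeAbelianGroup.lift (orbit act) y := by
  suffices H : ∀ (N : ℕ) (f : FreeAbelianGroup T), f.support.card ≤ N →
      FreeAbelianGroup.map (fun t => act t σ) f = f →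
      ∃ y : FreeAbelianGroup T, f = FreeAbelianGroup.lift (orbit act) y from
    fun f hf => H _ f le_rfl hf
  intro N
  induction N with
  | zero =>
    intro f hN _
    exact ⟨0, by rw [map_zero]; exact FreeAbelianGroup.support_eq_empty.1 (Finset.card_eq_zero.1 (Nat.le_zero.1 hN))⟩
  | succ N ih =>
    intro f hN hf
    by_cases h0 : f = 0
    · exact ⟨0, by rw [map_zero, h0]⟩
    obtain ⟨t, ht⟩ := FreeAbelianGroup.nonempty_support_iff.2 h0
    set n := FreeAbelianGroup.coeff t f
    have hinj : Function.Injective (fun x => act x σ) := fun a b h => by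
      have := congrArg (fun x => act x σ⁻¹) h
      simpa [hmul, hone] using this
    have hconst : ∀ g : G, FreeAbelianGroup.coeff (act t g) f = n := by
      intro g
      obtain ⟨k, rfl⟩ := hσ g
      have step : ∀ x, FreeAbelianGroup.coeff (act x σ) f = FreeAbelianGroup.coeff x f := fun x => by
        conv_lhs => rw [← hf]
        exact coeff_map hinj x f
      dsimp only
      induction k using Int.induction_on with
      | zero => rw [zpow_zero, hone]
      | succ i hi => rw [zpow_add_one, ← hmul, step, hi]
      | pred i hi =>
        rw [← hi, ← step (act t (σ ^ (-(i : ℤ) - 1))), hmul, ← zpow_add_one, sub_add_cancel]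
    have horb : FreeAbelianGroup.map (fun x => act x σ) (orbit act t) = orbit act t := by
      rw [orbit, map_sum]
      simp only [FreeAbelianGroup.map_of_apply, hmul]
      exact Fintype.sum_equiv (Equiv.mulRight σ) _ _ fun g => rfl
    let f' := f - n • orbit act t
    have hf' : FreeAbelianGroup.map (fun x => act x σ) f' = f' := by
      simp only [f', map_sub, map_zsmul, hf, horb]
    have hsub : f'.support ⊆ f.support.erase t := by
      intro x hx
      rw [FreeAbelianGroup.mem_support_iff, map_sub, map_zsmul, coeff_orbit act hfree] at hx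
      rw [Finset.mem_erase, FreeAbelianGroup.mem_support_iff]
      by_cases hr : x ∈ Set.range (act t)
      · obtain ⟨g, rfl⟩ := hr
        rw [if_pos ⟨g, rfl⟩, hconst g, smul_eq_mul, mul_one, sub_self] at hx
        exact absurd rfl hx
      · rw [if_neg hr, smul_zero, sub_zero] at hx
        exact ⟨fun e => hr ⟨1, by rw [hone, e]⟩, hx⟩
    obtain ⟨y, hy⟩ := ih f' (by
      have := (Finset.card_le_card hsub).trans_eq (Finset.card_erase_of_mem ht)
      omega) hf'
    refine ⟨y + n • FreeAbelianGroup.of t, ?_⟩
    rw [map_add, map_zsmul, FreeAbelianGroup.lift_apply_of, ← hy]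
    simp [f']

end Groth.Agent.GalNorm
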