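import Groth.Agent.GalNorm.Sect
import Groth.Agent.GalNorm.Orbit
import Groth.Agent.EtMV.Free

/-!
The periodic sequence `0 → P V → P W → P W → P V → 0` of a cyclic Galois covering `W → V` in the small etale site.
-/

set_option autoImplicit false
set_option backward.isDefEq.respectTransparency false
set_option backward.isDefEq.respectTransparency.types false
set_option linter.style.haveILetI false
set_option linter.auxLemma false

universe u

open CategoryTheory CategoryTheory.Limits AlgebraicGeometry Opposite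

noncomputable section

namespace Groth.Agent.GalNorm

attribute [local instance 100000] EtCoh.H._proof_1 EtMV.hext
attribute [local instance 200000] EtMV.hextAb

variable {X : Scheme.{u}}

/-- Formal combinations of morphisms as sections of the free sheaf. -/
def eta (o Z : X.Etale) : FreeAbelianGroup (ULift.{u + 1} (Z ⟶ o)) →+ EtCoh.sect ((EtMV.P X).obj o) Z :=
  ((toSheafify X.smallEtaleTopology ((EtMV.freePre X).obj o)).app (op Z)).hom

theorem eta_res (o : X.Etale) {Z Z' : X.Etale} (g : Z' ⟶ Z) (f : FreeAbelianGroup (ULift.{u + 1} (Z ⟶ o))) :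
    EtFLC.res _ g (eta o Z f) = eta o Z' (FreeAbelianGroup.map (fun h => ULift.up.{u + 1} (g ≫ h.down)) f) :=
  (ConcreteCategory.congr_hom ((toSheafify X.smallEtaleTopology ((EtMV.freePre X).obj o)).naturality g.op) f).symm

theorem eta_map {o o' : X.Etale} (φ : o ⟶ o') {Z : X.Etale} (f : FreeAbelianGroup (ULift.{u + 1} (Z ⟶ o))) :
    sapp ((EtMV.P X).map φ) (eta o Z f) = eta o' Z (FreeAbelianGroup.map (fun h => ULift.up.{u + 1} (h.down ≫ φ)) f) :=
  (ConcreteCategory.congr_hom (congr_app (toSheafify_naturality X.smallEtaleTopology ((EtMV.freePre X).map φ))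
    (op Z)) f).symm

theorem uel_eq (o : X.Etale) : EtMV.uel o = eta o o (FreeAbelianGroup.of (ULift.up.{u + 1} (𝟙 o))) := by
  rw [EtMV.uel, EtMV.σ]
  simp only [Equiv.trans_apply]
  rfl

theorem eta_of {o Z : X.Etale} (h : Z ⟶ o) :
    eta o Z (FreeAbelianGroup.of (ULift.up.{u + 1} h)) = EtFLC.res _ h (EtMV.uel o) := by
  rw [uel_eq, eta_res, FreeAbelianGroup.map_of_apply, Category.comp_id]

theorem exists_eta {o Z : X.Etale} (s : EtCoh.sect ((EtMV.P X).obj o) Z) (z : Z.left) :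
    ∃ (Z' : X.Etale) (g : Z' ⟶ Z) (z' : Z'.left) (f : FreeAbelianGroup (ULift.{u + 1} (Z' ⟶ o))),
      g.left z' = z ∧ EtFLC.res _ g s = eta o Z' f := by
  obtain ⟨Z', g, z', ⟨f, hf⟩, hz⟩ := (EtFLC.mem_iff _).1 (Presheaf.imageSieve_mem X.smallEtaleTopology
    (toSheafify X.smallEtaleTopology ((EtMV.freePre X).obj o)) s) z
  exact ⟨Z', g, z', f, hz, hf.symm⟩

theorem eta_eq_local {o Z : X.Etale} {f f' : FreeAbelianGroup (ULift.{u + 1} (Z ⟶ o))}
    (h : eta o Z f = eta o Z f') (z : Z.left) :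
    ∃ (Z' : X.Etale) (g : Z' ⟶ Z) (z' : Z'.left), g.left z' = z ∧
      FreeAbelianGroup.map (fun k => ULift.up.{u + 1} (g ≫ k.down)) f = FreeAbelianGroup.map (fun k => ULift.up.{u + 1} (g ≫ k.down)) f' := by
  obtain ⟨Z', g, z', hg, hz⟩ := (EtFLC.mem_iff _).1 (Presheaf.equalizerSieve_mem X.smallEtaleTopology
    (toSheafify X.smallEtaleTopology ((EtMV.freePre X).obj o)) f f' h) z
  refine ⟨Z', g, z', hz, ?_⟩
  have hg' : ((EtMV.freePre X).obj o).map g.op f = ((EtMV.freePre X).obj o).map g.op f' := hg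
  exact hg'

theorem mono_nsmul_P (o : X.Etale) {n : ℕ} (hn : n ≠ 0) : Mono (n • 𝟙 ((EtMV.P X).obj o)) := by
  refine mono_of_injective _ fun Z s t h => ?_
  have h' : n • (s - t) = 0 := by rw [nsmul_sub, sub_eq_zero]; exact h
  rw [← sub_eq_zero]
  refine EtFLC.sect_ext _ fun z => ?_
  obtain ⟨Z', g, z', f, hz, hf⟩ := exists_eta (s - t) z
  have h0 : eta o Z' (n • f) = eta o Z' 0 := by
    rw [map_nsmul, ← hf, ← map_nsmul, h', map_zero, map_zero]
  obtain ⟨Z'', g', z'', hz', hk⟩ := eta_eq_local h0 z'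
  refine ⟨Z'', g' ≫ g, z'', ?_, ?_⟩
  · rw [EtFLC.comp_left_apply, hz', hz]
  · rw [map_nsmul, map_zero] at hk
    have hk' : FreeAbelianGroup.map (fun k => ULift.up.{u + 1} (g' ≫ k.down)) f = 0 := by
      refine (FreeAbelianGroup.equivFinsupp _).map_eq_zero_iff.1 (Finsupp.ext fun x => ?_)
      have h2 := congrArg (fun w => (FreeAbelianGroup.equivFinsupp _ w) x) hk
      simp only [map_nsmul, map_zero, Finsupp.smul_apply, Finsupp.coe_zero, Pi.zero_apply, nsmul_eq_mul,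
        mul_eq_zero, Nat.cast_eq_zero, hn, false_or] at h2 ⊢
      exact h2
    rw [← EtFLC.res_res, hf, eta_res, map_zero, hk', map_zero]

theorem hom_ext_P {o : X.Etale} {G : EtCoh.Ab X} {φ ψ : (EtMV.P X).obj o ⟶ G}
    (h : sapp φ (EtMV.uel o) = sapp ψ (EtMV.uel o)) : φ = ψ :=
  EtMV.σ.injective (by rw [EtMV.σ_eq, EtMV.σ_eq]; exact h)

theorem sapp_σsymm {o : X.Etale} {G : EtCoh.Ab X} (s : EtCoh.sect G o) :
    sapp (EtMV.σ.symm s) (EtMV.uel o) = s :=
  (EtMV.σ_eq _).symm.trans (Equiv.apply_symm_apply _ _)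

theorem sapp_map_uel {o o' : X.Etale} (φ : o ⟶ o') :
    sapp ((EtMV.P X).map φ) (EtMV.uel o) = EtFLC.res _ φ (EtMV.uel o') := by
  rw [uel_eq, eta_map, FreeAbelianGroup.map_of_apply, Category.id_comp, eta_of]

/-- A cyclic Galois covering in the small etale site. -/
structure CycCover (X : Scheme.{u}) where
  V : X.Etale
  W : X.Etale
  π : W ⟶ V
  surj : Function.Surjective π.left
  G : Type u
  [grp : Group G]
  [fin : Fintype G]
  ρ : G → (W ⟶ W)
  ρ_π : ∀ g, ρ g ≫ π = π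
  ρ_one : ρ 1 = 𝟙 W
  ρ_mul : ∀ a b, ρ a ≫ ρ b = ρ (a * b)
  cov : ∀ (Z : X.Etale) (p q : Z ⟶ W), p ≫ π = q ≫ π → ∀ z : Z.left,
    ∃ (Z' : X.Etale) (j : Z' ⟶ Z) (z' : Z'.left), j.left z' = z ∧ ∃ g : G, j ≫ q = j ≫ p ≫ ρ g
  free : ∀ (Z : X.Etale) (_ : Z.left) (p : Z ⟶ W), Function.Injective (fun g => p ≫ ρ g)
  gen : G
  gen_spec : ∀ g : G, g ∈ Subgroup.zpowers gen

attribute [instance] CycCover.grp CycCover.fin

namespace CycCover

variable (C : CycCover X)

theorem res_π_injective (F : EtCoh.Ab X) : Function.Injective (EtFLC.res F C.π) := fun s t h =>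
  EtFLC.sect_ext F fun v => by
    obtain ⟨w, hw⟩ := C.surj v
    exact ⟨C.W, C.π, w, hw, h⟩

/-- Invariant sections descend. -/
theorem exists_descend (F : EtCoh.Ab X) (s : EtCoh.sect F C.W) (hs : ∀ g, EtFLC.res F (C.ρ g) s = s) :
    ∃ t : EtCoh.sect F C.V, EtFLC.res F C.π t = s := by
  let P : X.Etaleᵒᵖ ⥤ Type (u + 1) := F.obj ⋙ forget AddCommGrpCat.{u + 1}
  have hsh : Presieve.IsSheaf X.smallEtaleTopology P :=
    (isSheaf_iff_isSheaf_of_type _ _).1
      ((sheafCompose X.smallEtaleTopology (forget AddCommGrpCat.{u + 1})).obj F).property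
  have hmem : Sieve.ofArrows (fun _ : PUnit.{u + 1} => C.W) (fun _ => C.π) ∈ X.smallEtaleTopology C.V := by
    rw [Scheme.ofArrows_mem_smallEtaleTopology_iff]
    refine Set.eq_univ_of_forall fun x => ?_
    obtain ⟨y, hy⟩ := C.surj x
    exact Set.mem_iUnion.2 ⟨⟨⟩, y, hy⟩
  have h := (Presieve.isSheafFor_iff_generate _).2 (hsh _ hmem)
  rw [Presieve.ofArrows_pUnit, Presieve.isSheafFor_singleton] at h
  obtain ⟨t, ht, -⟩ := h s fun {Z} p q hpq => by
    change EtFLC.res F p s = EtFLC.res F q s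
    refine EtFLC.sect_ext F fun z => ?_
    obtain ⟨Z', j, z', hz, g, hg⟩ := C.cov Z p q hpq z
    refine ⟨Z', j, z', hz, ?_⟩
    rw [EtFLC.res_res, EtFLC.res_res, hg, ← EtFLC.res_res _ j (p ≫ C.ρ g), ← EtFLC.res_res _ p (C.ρ g),
      hs, EtFLC.res_res]
  exact ⟨t, ht⟩

/-- The augmentation. -/
def deg : (EtMV.P X).obj C.W ⟶ (EtMV.P X).obj C.V := (EtMV.P X).map C.π

/-- `σ - 1`. -/
def q : (EtMV.P X).obj C.W ⟶ (EtMV.P X).obj C.W := (EtMV.P X).map (C.ρ C.gen) - 𝟙 _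

theorem exists_orbitSection : ∃ t : EtCoh.sect ((EtMV.P X).obj C.W) C.V,
    EtFLC.res _ C.π t = ∑ g, EtFLC.res _ (C.ρ g) (EtMV.uel C.W) :=
  C.exists_descend _ _ fun a => by
    rw [map_sum]
    simp only [EtFLC.res_res, C.ρ_mul]
    exact Fintype.sum_equiv (Equiv.mulLeft a) _ _ fun g => rfl

/-- The norm element. -/
def d : (EtMV.P X).obj C.V ⟶ (EtMV.P X).obj C.W := EtMV.σ.symm C.exists_orbitSection.choose

theorem res_d : EtFLC.res _ C.π (sapp C.d (EtMV.uel C.V)) = ∑ g, EtFLC.res _ (C.ρ g) (EtMV.uel C.W) := by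
  rw [d, sapp_σsymm]
  exact C.exists_orbitSection.choose_spec

theorem sapp_d_res {Z : X.Etale} (h : Z ⟶ C.W) :
    sapp C.d (EtFLC.res _ (h ≫ C.π) (EtMV.uel C.V)) = ∑ g, EtFLC.res _ (h ≫ C.ρ g) (EtMV.uel C.W) := by
  rw [← EtFLC.res_res, sapp, EtFLC.app_res, EtFLC.app_res, res_d, map_sum]
  simp only [EtFLC.res_res]

theorem hom_ext_V {F : EtCoh.Ab X} {φ ψ : (EtMV.P X).obj C.V ⟶ F}
    (h : C.deg ≫ φ = C.deg ≫ ψ) : φ = ψ := by
  refine hom_ext_P (C.res_π_injective F ?_)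
  rw [← EtFLC.app_res, ← EtFLC.app_res, ← sapp_map_uel]
  exact congrArg (fun f => sapp f (EtMV.uel C.W)) h

theorem epi_deg : Epi C.deg := ⟨fun φ ψ h => C.hom_ext_V h⟩

theorem d_deg : C.d ≫ C.deg = Fintype.card C.G • 𝟙 _ := by
  refine hom_ext_P (C.res_π_injective _ ?_)
  rw [sapp_nsmul_id, map_nsmul, sapp_comp, ← EtFLC.app_res, res_d, map_sum]
  have : ∀ g, sapp C.deg (EtFLC.res _ (C.ρ g) (EtMV.uel C.W)) = EtFLC.res _ C.π (EtMV.uel C.V) := fun g => by
    rw [sapp, EtFLC.app_res, deg]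
    rw [show (((EtMV.P X).map C.π).hom.app (op C.W)).hom (EtMV.uel C.W) = EtFLC.res _ C.π (EtMV.uel C.V) from
      sapp_map_uel C.π, EtFLC.res_res, C.ρ_π]
  rw [Finset.sum_congr rfl fun g _ => this g, Finset.sum_const, Finset.card_univ]

theorem mono_d : Mono C.d := by
  haveI := mono_nsmul_P C.V (n := Fintype.card C.G) Fintype.card_ne_zero
  exact mono_of_mono_fac C.d_deg

theorem d_q : C.d ≫ C.q = 0 := by
  refine hom_ext_P (C.res_π_injective _ ?_)
  rw [sapp_comp, ← EtFLC.app_res, res_d]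
  change ((((EtMV.P X).map (C.ρ C.gen)).hom - (𝟙 ((EtMV.P X).obj C.W) : _ ⟶ _).hom).app (op C.W)).hom _ = _
  have h1 : ∀ g, sapp ((EtMV.P X).map (C.ρ C.gen)) (EtFLC.res _ (C.ρ g) (EtMV.uel C.W)) =
      EtFLC.res _ (C.ρ (g * C.gen)) (EtMV.uel C.W) := fun g => by
    rw [sapp, EtFLC.app_res, show (((EtMV.P X).map (C.ρ C.gen)).hom.app (op C.W)).hom (EtMV.uel C.W) =
      EtFLC.res _ (C.ρ C.gen) (EtMV.uel C.W) from sapp_map_uel _, EtFLC.res_res, C.ρ_mul]
  change sapp ((EtMV.P X).map (C.ρ C.gen)) (∑ g, EtFLC.res _ (C.ρ g) (EtMV.uel C.W)) -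
    ∑ g, EtFLC.res _ (C.ρ g) (EtMV.uel C.W) = EtFLC.res _ C.π 0
  rw [map_zero, sapp, map_sum, Finset.sum_congr rfl fun g _ => h1 g, sub_eq_zero]
  exact Fintype.sum_equiv (Equiv.mulRight C.gen) _ _ fun g => rfl

theorem q_deg : C.q ≫ C.deg = 0 := by
  rw [q, Preadditive.sub_comp, Category.id_comp, deg, ← Functor.map_comp, C.ρ_π, sub_self]

theorem exact_d_q : (ShortComplex.mk C.d C.q C.d_q).Exact := by
  refine exact_of_local _ _ _ fun Z s hs z => ?_
  obtain ⟨Z', g, z', f, hz, hf⟩ := exists_eta s z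
  have hinv : sapp ((EtMV.P X).map (C.ρ C.gen)) (eta C.W Z' f) = eta C.W Z' f := by
    rw [← hf, sapp, EtFLC.app_res, ← sub_eq_zero, ← map_sub]
    exact (congrArg _ hs).trans (map_zero _)
  rw [eta_map] at hinv
  obtain ⟨Z'', g', z'', hz', hk⟩ := eta_eq_local hinv z'
  set f' := FreeAbelianGroup.map (fun k => ULift.up.{u + 1} (g' ≫ k.down)) f with hf'
  have hfix : FreeAbelianGroup.map (fun k : ULift.{u + 1} (Z'' ⟶ C.W) => ULift.up.{u + 1} (k.down ≫ C.ρ C.gen)) f' = f' := by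
    rw [hf', ← FreeAbelianGroup.map_comp_apply]
    refine Eq.trans ?_ hk
    rw [← FreeAbelianGroup.map_comp_apply]
    refine congrArg (fun φ => FreeAbelianGroup.map φ f) (funext fun k => ?_)
    exact ULift.ext _ _ (Category.assoc _ _ _)
  obtain ⟨y, hy⟩ := exists_orbit_sum (fun (k : ULift.{u + 1} (Z'' ⟶ C.W)) a => ULift.up.{u + 1} (k.down ≫ C.ρ a))
    (fun k => by rw [C.ρ_one, Category.comp_id]) (fun k a b => by rw [Category.assoc, C.ρ_mul])
    (fun k a b h => C.free Z'' z'' k.down (congrArg ULift.down h)) C.gen C.gen_spec f' hfix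
  refine ⟨Z'', g' ≫ g, z'', eta C.V Z'' (FreeAbelianGroup.map (fun k => ULift.up.{u + 1} (k.down ≫ C.π)) y), ?_, ?_⟩
  · rw [EtFLC.comp_left_apply, hz', hz]
  · rw [← EtFLC.res_res, hf, eta_res, ← hf', hy]
    clear hy
    induction y using FreeAbelianGroup.induction_on with
    | zero => simp only [map_zero, sapp]
    | of k =>
      rw [FreeAbelianGroup.map_of_apply, FreeAbelianGroup.lift_apply_of, eta_of, sapp_d_res, orbit, map_sum]
      simp only [eta_of]
    | neg k hk => simp only [map_neg, sapp] at hk ⊢; rw [hk]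
    | add k k' hk hk' => simp only [map_add, sapp] at hk hk' ⊢; rw [hk, hk']

theorem exact_q_deg : (ShortComplex.mk C.q C.deg C.q_deg).Exact := by
  haveI := C.epi_deg
  refine ShortComplex.exact_of_g_is_cokernel _ (CokernelCofork.IsColimit.ofπ' _ C.q_deg fun {F} k hk => ?_)
  have hk' : C.q ≫ k = 0 := hk
  rw [q, Preadditive.sub_comp, Category.id_comp, sub_eq_zero] at hk'
  have h1 : EtFLC.res F (C.ρ C.gen) (sapp k (EtMV.uel C.W)) = sapp k (EtMV.uel C.W) := by
    rw [← EtFLC.app_res, ← sapp_map_uel]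
    exact congrArg (fun f => sapp f (EtMV.uel C.W)) hk'
  let S : Subgroup C.G :=
    { carrier := {g | EtFLC.res F (C.ρ g) (sapp k (EtMV.uel C.W)) = sapp k (EtMV.uel C.W)}
      one_mem' := by
        change EtFLC.res F (C.ρ 1) _ = _
        rw [C.ρ_one, EtFLC.res_id]
      mul_mem' := fun {a b} ha hb => by
        change EtFLC.res F (C.ρ (a * b)) _ = _
        rw [← C.ρ_mul, ← EtFLC.res_res, hb, ha]
      inv_mem' := fun {a} ha => by
        change EtFLC.res F (C.ρ a⁻¹) _ = _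
        conv_lhs => rw [← ha]
        rw [EtFLC.res_res, C.ρ_mul, inv_mul_cancel, C.ρ_one, EtFLC.res_id] }
  have hall : ∀ g, g ∈ S := fun g => (Subgroup.zpowers_le.2 (show C.gen ∈ S from h1)) (C.gen_spec g)
  choose t ht using C.exists_descend F _ hall
  refine ⟨EtMV.σ.symm t, hom_ext_P ?_⟩
  rw [sapp_comp, deg, sapp_map_uel, sapp, EtFLC.app_res]
  exact (congrArg _ (sapp_σsymm t)).trans ht

end CycCover

end Groth.Agent.GalNorm
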