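import Groth.Prelude.Def_GSzGalSym
import Groth.Agent.GalNorm.Const

/-!
A primitive root of unity trivialises the sheaf of roots of unity of a field.
-/

set_option autoImplicit false
set_option backward.isDefEq.respectTransparency false
set_option backward.isDefEq.respectTransparency.types false
set_option linter.style.haveILetI false

universe u

open CategoryTheory CategoryTheory.Limits AlgebraicGeometry Opposite

noncomputable section

namespace Groth.Agent.GalNorm

attribute [local instance 100000] EtCoh.H._proof_1 EtMV.hext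
attribute [local instance 200000] EtMV.hextAb

variable {F : Type u} [Field F]

local notation "XF" => Spec (CommRingCat.of F)

/-- The ring map from the field to the functions of an etale scheme over it. -/
def fnc (W : (Spec (CommRingCat.of F)).Etale) : F →+* (Γ(W.left, ⊤) : Type u) :=
  (W.hom.appTop.hom).comp (Scheme.ΓSpecIso (CommRingCat.of F)).inv.hom

theorem fnc_res {W V : (Spec (CommRingCat.of F)).Etale} (g : V ⟶ W) (a : F) :
    g.left.appTop.hom (fnc W a) = fnc V a := by
  have h : W.hom.appTop ≫ g.left.appTop = V.hom.appTop := by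
    rw [← Scheme.Hom.comp_appTop, MorphismProperty.Over.w g]
  exact ConcreteCategory.congr_hom h ((Scheme.ΓSpecIso (CommRingCat.of F)).inv.hom a)

/-- The section of `G_m` given by a unit of the field. -/
def usect (W : (Spec (CommRingCat.of F)).Etale) (a : Fˣ) :
    EtCoh.sect (EtCoh.Gm (Spec (CommRingCat.of F))) W :=
  ULift.up (Additive.ofMul (Units.map (fnc W : F →* (Γ(W.left, ⊤) : Type u)) a))

/-- The unit underlying a section of `G_m`. -/
def unitOf {W : (Spec (CommRingCat.of F)).Etale} (s : EtCoh.sect (EtCoh.Gm (Spec (CommRingCat.of F))) W) :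
    (Γ(W.left, ⊤) : Type u)ˣ :=
  ((s : ULift.{u + 1} (Additive ((Γ(W.left, ⊤) : Type u)ˣ))).down).toMul

theorem unitOf_injective (W : (Spec (CommRingCat.of F)).Etale) :
    Function.Injective (unitOf (W := W)) := fun _ _ h => ULift.ext _ _ h

theorem unitOf_res {W V : (Spec (CommRingCat.of F)).Etale} (g : V ⟶ W)
    (s : EtCoh.sect (EtCoh.Gm (Spec (CommRingCat.of F))) W) :
    unitOf (EtFLC.res _ g s) = Units.map (g.left.appTop.hom : _ →* _) (unitOf s) := rfl

theorem unitOf_nsmul {W : (Spec (CommRingCat.of F)).Etale}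
    (s : EtCoh.sect (EtCoh.Gm (Spec (CommRingCat.of F))) W) (n : ℕ) : unitOf (n • s) = unitOf s ^ n := rfl

theorem unitOf_zsmul {W : (Spec (CommRingCat.of F)).Etale}
    (s : EtCoh.sect (EtCoh.Gm (Spec (CommRingCat.of F))) W) (n : ℤ) : unitOf (n • s) = unitOf s ^ n := rfl

theorem res_usect {W V : (Spec (CommRingCat.of F)).Etale} (g : V ⟶ W) (a : Fˣ) :
    EtFLC.res _ g (usect W a) = usect V a :=
  unitOf_injective V (Units.ext (fnc_res g a))

theorem usect_mul (W : (Spec (CommRingCat.of F)).Etale) (a b : Fˣ) : usect W (a * b) = usect W a + usect W b :=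
  unitOf_injective W (map_mul (Units.map (fnc W : F →* (Γ(W.left, ⊤) : Type u))) a b)

theorem usect_pow (W : (Spec (CommRingCat.of F)).Etale) (a : Fˣ) (n : ℕ) : usect W (a ^ n) = n • usect W a :=
  unitOf_injective W (map_pow (Units.map (fnc W : F →* (Γ(W.left, ⊤) : Type u))) a n)

theorem nontrivial_of_mem {W : (Spec (CommRingCat.of F)).Etale} (w : W.left) :
    Nontrivial (Γ(W.left, ⊤) : Type u) :=
  (W.left.evaluation ⊤ w trivial).hom.domain_nontrivial

theorem usect_injective {W : (Spec (CommRingCat.of F)).Etale} (w : W.left) : Function.Injective (usect W) := by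
  intro a b h
  haveI := nontrivial_of_mem w
  exact Units.ext ((fnc W).injective (congrArg Units.val (congrArg unitOf h)))

/-- An open subscheme of an etale scheme. -/
def openObj {X : Scheme.{u}} (W : X.Etale) (U : W.left.Opens) : X.Etale :=
  haveI : Etale W.hom := W.prop
  MorphismProperty.Over.mk ⊤ (U.ι ≫ W.hom) (inferInstance : Etale (U.ι ≫ W.hom))

/-- Inclusion of an open subscheme. -/
def openIncl {X : Scheme.{u}} (W : X.Etale) (U : W.left.Opens) : openObj W U ⟶ W :=
  MorphismProperty.Over.homMk U.ι rfl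

/-- Roots of unity near a point are powers of a primitive root. -/
theorem exists_eq_pow {m : ℕ} (hm0 : (m : F) ≠ 0) {ω : Fˣ} (hω : IsPrimitiveRoot (ω : F) m)
    {W : (Spec (CommRingCat.of F)).Etale} (s : EtCoh.sect (EtCoh.Gm (Spec (CommRingCat.of F))) W)
    (hs : m • s = 0) (w : W.left) :
    ∃ (V : (Spec (CommRingCat.of F)).Etale) (g : V ⟶ W) (v : V.left) (i : ℕ),
      g.left v = w ∧ EtFLC.res _ g s = usect V (ω ^ i) := by
  haveI : NeZero m := ⟨fun h => hm0 (by simp [h])⟩
  set x : (Γ(W.left, ⊤) : Type u) := ((unitOf s : (Γ(W.left, ⊤) : Type u)ˣ) : (Γ(W.left, ⊤) : Type u))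
  have hx : x ^ m = 1 := congrArg Units.val (congrArg unitOf hs)
  let ev := (W.left.evaluation ⊤ w trivial).hom
  have hω' : IsPrimitiveRoot (ev (fnc W (ω : F))) m := hω.map_of_injective (ev.comp (fnc W)).injective
  obtain ⟨i, -, hi⟩ := hω'.eq_pow_of_pow_eq_one (by rw [← map_pow, hx, map_one] : ev x ^ m = 1)
  let c : (Γ(W.left, ⊤) : Type u) := fnc W ((ω : F) ^ i)
  have hc : c ^ m = 1 := by rw [← map_pow, pow_right_comm, hω.pow_eq_one, one_pow, map_one]
  have hec : ev c = ev x := by rw [← hi]; simp [c]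
  let q : (Γ(W.left, ⊤) : Type u) := ∑ j ∈ Finset.range m, x ^ j * c ^ (m - 1 - j)
  have hq : q * (x - c) = 0 := by rw [geom_sum₂_mul, hx, hc, sub_self]
  have hev : ev q = (m : W.left.residueField w) * ev x ^ (m - 1) := by
    simp only [q, map_sum, map_mul, map_pow, hec]
    rw [Finset.sum_congr rfl (fun j hj => by
      rw [← pow_add, Nat.add_sub_cancel' (Nat.le_sub_one_of_lt (Finset.mem_range.1 hj))]),
      Finset.sum_const, Finset.card_range, nsmul_eq_mul]
  have hw : w ∈ W.left.basicOpen q := by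
    rw [← W.left.evaluation_ne_zero_iff_mem_basicOpen w (U := ⊤) trivial]
    change ev q ≠ 0
    rw [hev]
    refine mul_ne_zero ?_ (pow_ne_zero _ ?_)
    · intro h
      exact hm0 ((ev.comp (fnc W)).injective (by rw [map_natCast, map_zero]; exact h))
    · intro h
      have := congrArg ev hx
      rw [map_pow, map_one, h, zero_pow (NeZero.ne m)] at this
      exact zero_ne_one this
  let U := W.left.basicOpen q
  refine ⟨openObj W U, openIncl W U, ⟨w, hw⟩, i, rfl, unitOf_injective _ (Units.ext ?_)⟩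
  change U.ι.appTop.hom x = fnc (openObj W U) ((ω : F) ^ i)
  rw [← fnc_res (openIncl W U)]
  change U.ι.appTop.hom x = U.ι.appTop.hom c
  rw [← sub_eq_zero, ← map_sub]
  have hu : IsUnit (U.ι.appTop.hom q) := by
    have h1 : IsUnit ((W.left.presheaf.map (homOfLE (W.left.basicOpen_le q)).op).hom q) :=
      RingedSpace.isUnit_res_basicOpen _ q
    have h2 := h1.map (U.topIso.inv).hom
    rw [show U.ι.appTop.hom q = U.topIso.inv.hom ((W.left.presheaf.map (homOfLE (W.left.basicOpen_le q)).op).hom q) from ?_]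
    · exact h2
    · rw [← ConcreteCategory.comp_apply]
      congr 1
      simp [Scheme.Opens.ι_appTop, Scheme.Opens.topIso, ← Functor.map_comp]
  exact hu.mul_right_eq_zero.1 (by rw [← map_mul, hq, map_zero])

theorem isIso_of_forget {Λ : Type (u + 1)} [CommRing Λ] {X : Scheme.{u}} {A B : EtModW.Mod Λ X} (f : A ⟶ B)
    [IsIso ((EtModD.forgetToAb Λ X).map f)] : IsIso f := by
  haveI : IsIso f.hom := by
    haveI : ∀ V, IsIso (f.hom.app V) := fun V => by
      have h : IsIso (((EtModD.forgetToAb Λ X).map f).hom.app V) := by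
        haveI : IsIso ((EtModD.forgetToAb Λ X).map f).hom :=
          (sheafToPresheaf X.smallEtaleTopology AddCommGrpCat.{u + 1}).map_isIso ((EtModD.forgetToAb Λ X).map f)
        infer_instance
      exact (ConcreteCategory.isIso_iff_bijective _).2 (ConcreteCategory.bijective_of_isIso
        (((EtModD.forgetToAb Λ X).map f).hom.app V))
    exact NatIso.isIso_of_isIso_app _
  haveI : IsIso ((sheafToPresheaf X.smallEtaleTopology (ModuleCat.{u + 1} Λ)).map f) := ‹IsIso f.hom›
  exact isIso_of_reflects_iso f (sheafToPresheaf X.smallEtaleTopology (ModuleCat.{u + 1} Λ))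

/-- A primitive root of unity gives `Λ ≅ μ`. -/
theorem exists_trivialization {m : ℕ} (hm0 : (m : F) ≠ 0) {ω : Fˣ} (hω : IsPrimitiveRoot (ω : F) m)
    (μ : EtModW.Mod (GalSym.Coef.{u} m) (Spec (CommRingCat.of F)))
    (e : (EtModD.forgetToAb (GalSym.Coef.{u} m) (Spec (CommRingCat.of F))).obj μ ≅ EtCoh.mu (Spec (CommRingCat.of F)) m) :
    ∃ t : EtSix.constΛ (GalSym.Coef.{u} m) (Spec (CommRingCat.of F)) ≅ μ,
      sapp (EtSix.intToConstΛ (GalSym.Coef.{u} m) (Spec (CommRingCat.of F)) ≫
          (EtModD.forgetToAb (GalSym.Coef.{u} m) (Spec (CommRingCat.of F))).map t.hom ≫ e.hom ≫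
          EtCoh.muι (Spec (CommRingCat.of F)) m) (EtMV.one _) = usect (EtCoh.top _) ω := by
  have hm : m ≠ 0 := fun h => hm0 (by simp [h])
  have hu : sapp (EtCoh.powMap (Spec (CommRingCat.of F)) m) (usect (EtCoh.top (Spec (CommRingCat.of F))) ω) = 0 := by
    rw [EtCoh.powMap, sapp_nsmul_id, ← usect_pow,
      show ω ^ m = 1 from Units.ext (by rw [Units.val_pow_eq_pow_val]; exact hω.pow_eq_one)]
    exact unitOf_injective _ (map_one (Units.map (fnc (EtCoh.top (Spec (CommRingCat.of F))) : F →* (Γ((EtCoh.top (Spec (CommRingCat.of F))).left, ⊤) : Type u))))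
  obtain ⟨u₀, hu₀⟩ := EtFLC.exists_kernel_sect (EtCoh.powMap (Spec (CommRingCat.of F)) m) _ hu
  obtain ⟨θ, hθ⟩ := (EtMV.κ_bijective (EtCoh.mu (Spec (CommRingCat.of F)) m)).2 u₀
  obtain ⟨t, ht⟩ := (constΛ_hom_bijective (m := m) (X := (Spec (CommRingCat.of F))) μ).2 (θ ≫ e.inv)
  let y := (EtModD.forgetToAb (GalSym.Coef.{u} m) (Spec (CommRingCat.of F))).map t ≫ e.hom
  have hy : EtSix.intToConstΛ (GalSym.Coef.{u} m) (Spec (CommRingCat.of F)) ≫ y = θ := by
    have := congrArg (· ≫ e.hom) ht
    simpa [y] using this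
  have hcst : ∀ (W : (Spec (CommRingCat.of F)).Etale) (n : ℤ),
      sapp (y ≫ EtCoh.muι (Spec (CommRingCat.of F)) m) (cstM m W (n : GalSym.Coef.{u} m)) = n • usect W ω := by
    intro W n
    rw [← sapp_intToConstΛ, ← sapp_comp, ← Category.assoc, hy, int_eq_zsmul_one, sapp, map_zsmul, EtFLC.app_res]
    congr 1
    rw [← res_usect (EtMV.toTop W) ω, ← hu₀]
    congr 1
    change ((EtCoh.muι (Spec (CommRingCat.of F)) m).hom.app (op (EtCoh.top (Spec (CommRingCat.of F))))).hom (EtMV.κ θ) = _
    rw [hθ]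
    rfl
  have hlift : ∀ r : GalSym.Coef.{u} m, ∃ n : ℤ, (n : GalSym.Coef.{u} m) = r := fun r => by
    obtain ⟨n, hn⟩ := ZMod.intCast_surjective r.down
    exact ⟨n, ULift.ext _ _ (by simpa using hn)⟩
  haveI : Mono y := by
    refine mono_of_injective _ fun W s s' hs => ?_
    have h' : sapp (y ≫ EtCoh.muι (Spec (CommRingCat.of F)) m) (s - s') = 0 := by
      rw [sapp, map_sub, sub_eq_zero]
      exact congrArg (sapp (EtCoh.muι (Spec (CommRingCat.of F)) m)) hs
    rw [← sub_eq_zero]
    refine EtFLC.sect_ext _ fun v => ?_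
    obtain ⟨Z, g, z, r, hz, hr⟩ := exists_cstM m (s - s') v
    refine ⟨Z, g, z, hz, ?_⟩
    obtain ⟨n, rfl⟩ := hlift r
    have h0 : n • usect Z ω = usect Z 1 := by
      rw [← hcst, ← hr, sapp, EtFLC.app_res]
      exact (congrArg _ h').trans ((map_zero _).trans (unitOf_injective Z (map_one (Units.map (fnc Z : F →* (Γ(Z.left, ⊤) : Type u)))).symm))
    have h1 : ω ^ n = 1 := usect_injective z (by
      rw [← h0]
      exact unitOf_injective Z (map_zpow (Units.map (fnc Z : F →* (Γ(Z.left, ⊤) : Type u))) ω n))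
    have h2 : (m : ℤ) ∣ n := (hω.zpow_eq_one_iff_dvd n).1 (by
      rw [← Units.val_zpow_eq_zpow_val, h1, Units.val_one])
    rw [hr, map_zero, show (n : GalSym.Coef.{u} m) = 0 from
      ULift.ext _ _ (by simpa using (ZMod.intCast_zmod_eq_zero_iff_dvd n m).2 h2), cstM_zero]
  haveI : Mono (EtCoh.muι (Spec (CommRingCat.of F)) m) := inferInstanceAs (Mono (kernel.ι _))
  haveI : Epi y := by
    refine epi_of_local _ fun W s v => ?_
    have hs : m • sapp (EtCoh.muι (Spec (CommRingCat.of F)) m) s = 0 := by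
      rw [← sapp_nsmul_id, ← sapp_comp]
      change sapp (EtCoh.muι (Spec (CommRingCat.of F)) m ≫ EtCoh.powMap (Spec (CommRingCat.of F)) m) s = 0
      rw [EtCoh.muι, kernel.condition]
      rfl
    obtain ⟨V, g, v', i, hv, hi⟩ := exists_eq_pow hm0 hω _ hs v
    refine ⟨V, g, v', cstM m V ((i : ℤ) : GalSym.Coef.{u} m), hv, EtFLC.app_injective (EtCoh.muι (Spec (CommRingCat.of F)) m) V
      ?_⟩
    change sapp (y ≫ EtCoh.muι (Spec (CommRingCat.of F)) m) _ = _
    rw [hcst, natCast_zsmul, ← usect_pow, ← hi]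
    exact (EtFLC.app_res _ g s).symm
  haveI : IsIso y := isIso_of_mono_of_epi y
  haveI : IsIso ((EtModD.forgetToAb (GalSym.Coef.{u} m) (Spec (CommRingCat.of F))).map t) := IsIso.of_isIso_comp_right _ e.hom
  haveI := isIso_of_forget t
  refine ⟨asIso t, ?_⟩
  rw [asIso_hom, ← Category.assoc ((EtModD.forgetToAb (GalSym.Coef.{u} m) (Spec (CommRingCat.of F))).map t), ← Category.assoc, hy, sapp_comp]
  exact (congrArg (sapp (EtCoh.muι (Spec (CommRingCat.of F)) m)) hθ).trans hu₀

end Groth.Agent.GalNorm
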