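import Groth.Agent.EtPBC.FieldMu
import Groth.Agent.GalNorm.Free
import Groth.Agent.GalNorm.Mu
import Mathlib.RingTheory.Norm.Basic

/-! Cyclic coverings given by cyclic extensions of fields, and norms as sections. -/

set_option autoImplicit false
set_option backward.isDefEq.respectTransparency false
set_option backward.isDefEq.respectTransparency.types false
set_option linter.style.haveILetI false
set_option linter.auxLemma false

universe u

open CategoryTheory CategoryTheory.Limits CategoryTheory.Abelian AlgebraicGeometry Opposite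
open Groth.Agent.GalCohLib (pt ptMap)

noncomputable section

namespace Groth.Agent.GalNorm

attribute [local instance 100000] EtCoh.H._proof_1 EtMV.hext
attribute [local instance 200000] EtMV.hextAb

variable (F K L : Type u) [Field F] [Field K] [Field L] [Algebra F K] [Algebra F L] [Algebra K L] [IsScalarTower F K L]
  [FiniteDimensional F K] [Algebra.IsSeparable F K] [FiniteDimensional F L] [Algebra.IsSeparable F L]
  [FiniteDimensional K L] [IsGalois K L]

/-- The covering of a cyclic extension `L/K` inside the small etale site of `F`. -/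
@[simps V W π]
def galCover (g : L ≃ₐ[K] L) (hg : ∀ x : L ≃ₐ[K] L, x ∈ Subgroup.zpowers g) :
    CycCover (Spec (CommRingCat.of F)) where
  V := pt F K
  W := pt F L
  π := ptMap F K L
  surj := EtPBC.ptMap_surjective F K L
  G := L ≃ₐ[K] L
  ρ := EtPBC.galMap F K L
  ρ_π := EtPBC.galMap_π F K L
  ρ_one := EtPBC.galMap_one F K L
  ρ_mul a b := (EtPBC.galMap_mul F K L a b).symm
  cov Z p q h z := by
    obtain ⟨T', j, w, g, hw, hj⟩ := EtPBC.exists_nhd_galMap F K L p q h z
    exact ⟨T', j, w, hw, g, hj⟩
  free Z z p a b h := EtPBC.galMap_free F K L p ⟨z⟩ a b h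
  gen := g
  gen_spec := hg

variable (g : L ≃ₐ[K] L) (hg : ∀ x : L ≃ₐ[K] L, x ∈ Subgroup.zpowers g)

/-- Maps on the free sheaf of the covering, composed with the norm element. -/
theorem d_comp_iff_norm (c : Kˣ) (φ₀ : (EtMV.P (Spec (CommRingCat.of F))).obj (pt F K) ⟶ EtCoh.Gm _)
    (hφ₀ : sapp φ₀ (EtMV.uel (pt F K)) = EtPBC.uSect K (Additive.ofMul c)) :
    (∃ φ : (EtMV.P (Spec (CommRingCat.of F))).obj (pt F L) ⟶ EtCoh.Gm _, (galCover F K L g hg).d ≫ φ = φ₀) ↔
      ∃ y : L, Algebra.norm K y = (c : K) := by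
  let C := galCover F K L g hg
  have key : ∀ u : Lˣ, EtFLC.res _ C.π
      (sapp (C.d ≫ EtMV.σ.symm (EtPBC.uSect L (Additive.ofMul u))) (EtMV.uel C.V)) =
      EtPBC.uSect L (Additive.ofMul (∏ a : L ≃ₐ[K] L, Units.map a.toAlgHom.toRingHom.toMonoidHom u)) := by
    intro u
    rw [sapp_comp, ← EtFLC.app_res, C.res_d, map_sum, ofMul_prod, map_sum]
    refine Finset.sum_congr rfl fun a _ => ?_
    rw [EtFLC.app_res]
    refine (congrArg _ (sapp_σsymm _)).trans ?_
    exact EtPBC.res_uSect a.toAlgHom.toRingHom (EtPBC.galMap F K L a) rfl u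
  have hres : EtFLC.res _ C.π (sapp φ₀ (EtMV.uel C.V)) =
      EtPBC.uSect L (Additive.ofMul (Units.map (algebraMap K L).toMonoidHom c)) := by
    rw [show sapp φ₀ (EtMV.uel C.V) = EtPBC.uSect K (Additive.ofMul c) from hφ₀]
    exact EtPBC.res_uSect (algebraMap K L) (ptMap F K L) rfl c
  have hinj : Function.Injective (EtPBC.uSect (k := F) L) := by
    intro a b h
    have h1 := congrArg ULift.down h
    have h2 := Units.map_injective (f := (Scheme.ΓSpecIso (CommRingCat.of L)).inv.hom.toMonoidHom)
      (fun x y hxy => by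
        have := congrArg (Scheme.ΓSpecIso (CommRingCat.of L)).hom hxy
        simpa using this) h1
    exact h2
  constructor
  · rintro ⟨φ, hφ⟩
    obtain ⟨a, ha⟩ := EtPBC.uSect_surjective L (EtMV.σ φ)
    refine ⟨((Additive.toMul a : Lˣ) : L), (algebraMap K L).injective ?_⟩
    have hφ' : C.d ≫ EtMV.σ.symm (EtPBC.uSect L (Additive.ofMul (Additive.toMul a))) = φ₀ :=
      (congrArg (C.d ≫ ·) ((congrArg EtMV.σ.symm ha).trans (Equiv.symm_apply_apply _ _))).trans hφ
    have h1 := hres.symm.trans ((congrArg (fun f => EtFLC.res _ C.π (sapp f (EtMV.uel C.V))) hφ').symm.trans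
      (key (Additive.toMul a)))
    have h2 : (Units.map (algebraMap K L).toMonoidHom c : Lˣ) = _ := congrArg Additive.toMul (hinj h1)
    rw [Algebra.norm_eq_prod_automorphisms]
    refine Eq.trans ?_ (congrArg Units.val h2).symm
    simp
  · rintro ⟨y, hy⟩
    have hy0 : y ≠ 0 := by
      rintro rfl
      exact c.ne_zero (hy.symm.trans Algebra.norm_zero)
    refine ⟨EtMV.σ.symm (EtPBC.uSect L (Additive.ofMul (Units.mk0 y hy0))), hom_ext_P (C.res_π_injective _ ?_)⟩
    refine ((key (Units.mk0 y hy0)).trans ?_).trans hres.symm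
    refine congrArg (fun v => EtPBC.uSect L (Additive.ofMul v)) (Units.ext ?_)
    rw [Units.coe_prod, Units.coe_map, ← hy]
    exact (Algebra.norm_eq_prod_automorphisms K y).symm

end Groth.Agent.GalNorm
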