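import Groth.Agent.GalNorm.Theta
import Groth.Agent.GalNorm.Galois
import Groth.Agent.GalNorm.Cyc

/-!
The norm criterion: over a finite separable `K/F`, the class of `{a, b}` dies iff `b` is a norm from `K(a^{1/m})`,
and the classes killed by a Kummer extension `F(c^{1/m})` are the `{c, f}`.
-/

set_option autoImplicit false
set_option backward.isDefEq.respectTransparency false
set_option backward.isDefEq.respectTransparency.types false
set_option linter.style.haveILetI false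
set_option linter.auxLemma false

universe u

open CategoryTheory CategoryTheory.Limits CategoryTheory.Abelian AlgebraicGeometry Opposite
open Groth.Agent.GalCohLib (pt ptMap)

noncomputable section

namespace Groth.Agent.GalNorm

attribute [local instance 100000] EtCoh.H._proof_1 EtMV.hext
attribute [local instance 200000] EtMV.hextAb

theorem sapp_q_comp {X : Scheme.{u}} (C : CycCover X) {G : EtCoh.Ab X} (A : (EtMV.P X).obj C.W ⟶ G) :
    sapp (C.q ≫ A) (EtMV.uel C.W) = EtFLC.res G (C.ρ C.gen) (sapp A (EtMV.uel C.W)) - sapp A (EtMV.uel C.W) := by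
  rw [CycCover.q, Preadditive.sub_comp, Category.id_comp, ← EtFLC.app_res, ← sapp_map_uel]
  rfl

theorem final_aux {C : Type*} [Category C] [Abelian C] [HasExt C] {P Z Q μ' U M A : C} (T : P ⟶ Z) (kum : Ext Z μ' 1)
    (yi : μ' ⟶ U) (ε : Ext U Z 1) (g : M ⟶ μ') (h₂ : Ext P M 1) (_ : Q = A)
    (e₂ : h₂.comp (Ext.mk₀ g) (add_zero 1) = (Ext.mk₀ T).comp kum (zero_add 1)) :
    (Ext.mk₀ T).comp ((kum.comp (Ext.mk₀ yi) (add_zero 1)).comp ε (rfl : 1 + 1 = 2)) (zero_add 2) =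
      h₂.comp ((Ext.mk₀ (g ≫ yi)).comp ε (zero_add 1)) (rfl : 1 + 1 = 2) := by
  rw [← Ext.mk₀_comp_mk₀_assoc g yi ε, ← Ext.comp_assoc_of_second_deg_zero h₂ (Ext.mk₀ g), e₂,
    Ext.comp_assoc_of_second_deg_zero kum]
  exact (Ext.comp_assoc _ _ _ (zero_add 1) (rfl : 1 + 1 = 2) rfl).symm

section Units

variable {F : Type u} [Field F]

theorem usect_pt (K : Type u) [Field K] [Algebra F K] [FiniteDimensional F K] [Algebra.IsSeparable F K] (a : Fˣ) :
    usect (pt F K) a = EtPBC.uSect K (Additive.ofMul (Units.map (algebraMap F K : F →* K) a)) := by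
  refine congrArg ULift.up (congrArg Additive.ofMul (Units.ext ?_))
  show (Spec.map (CommRingCat.ofHom (algebraMap F K))).appTop ((Scheme.ΓSpecIso (CommRingCat.of F)).inv (a : F)) =
    (Scheme.ΓSpecIso (CommRingCat.of K)).inv (algebraMap F K (a : F))
  exact (ConcreteCategory.congr_hom (Scheme.ΓSpecIso_inv_naturality (CommRingCat.ofHom (algebraMap F K))) (a : F)).symm

/-- The structure map to `ℤ` of a point. -/
def Tmap (K : Type u) [Field K] [Algebra F K] [FiniteDimensional F K] [Algebra.IsSeparable F K] :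
    (EtMV.P (Spec (CommRingCat.of F))).obj (pt F K) ⟶ EtCoh.const (Spec (CommRingCat.of F)) ℤ :=
  (EtMV.P _).map (EtMV.toTop (pt F K)) ≫ (EtMV.θ _).inv

theorem sapp_Tmap_comp {K : Type u} [Field K] [Algebra F K] [FiniteDimensional F K] [Algebra.IsSeparable F K]
    {G : EtCoh.Ab (Spec (CommRingCat.of F))} (φ : EtCoh.const (Spec (CommRingCat.of F)) ℤ ⟶ G) :
    sapp (Tmap K ≫ φ) (EtMV.uel (pt F K)) = EtFLC.res _ (EtMV.toTop (pt F K)) (sapp φ (EtMV.one _)) := by
  rw [Tmap, sapp_comp, sapp_comp, sapp_map_uel]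
  simp only [sapp, EtFLC.app_res]
  congr 2
  exact sapp_σsymm _

theorem sapp_uGm (b : Fˣ) : sapp (Dat.uGm b) (EtMV.one _) = usect (EtCoh.top (Spec (CommRingCat.of F))) b := by
  have h : sapp (Dat.uGm b) (EtMV.one _) = GalSym.unitSection _ (GalSym.specUnit F b) := by
    change (EtCore.constAdj (Spec (CommRingCat.of F))).homEquiv _ _ (Dat.uGm b) (ULift.up 1) = _
    rw [Dat.uGm, GalSym.unitMor, Equiv.apply_symm_apply]
    exact one_zsmul _
  rw [h]
  refine congrArg ULift.up (congrArg Additive.ofMul (Units.ext ?_))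
  change (Scheme.ΓSpecIso (CommRingCat.of F)).inv.hom (b : F) =
    (𝟙 (Spec (CommRingCat.of F)) : _ ⟶ _).appTop.hom ((Scheme.ΓSpecIso (CommRingCat.of F)).inv.hom (b : F))
  rw [Scheme.Hom.id_appTop]
  rfl

theorem sapp_Tmap_uGm (K : Type u) [Field K] [Algebra F K] [FiniteDimensional F K] [Algebra.IsSeparable F K] (b : Fˣ) :
    sapp (Tmap K ≫ Dat.uGm b) (EtMV.uel (pt F K)) =
      EtPBC.uSect K (Additive.ofMul (Units.map (algebraMap F K : F →* K) b)) := by
  rw [sapp_Tmap_comp, sapp_uGm, res_usect, usect_pt]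

theorem isIso_Tmap (K : Type u) [Field K] [Algebra F K] [FiniteDimensional F K] [Algebra.IsSeparable F K]
    (hK : Function.Bijective (algebraMap F K)) : IsIso (Tmap (F := F) K) := by
  haveI : IsIso (Spec.map (CommRingCat.ofHom (algebraMap F K))) := by
    haveI : IsIso (CommRingCat.ofHom (algebraMap F K)) :=
      (ConcreteCategory.isIso_iff_bijective _).2 hK
    infer_instance
  haveI : IsIso (EtMV.toTop (pt F K)) := by
    haveI : IsIso ((Scheme.Etale.forget (Spec (CommRingCat.of F))).map (EtMV.toTop (pt F K))) := by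
      haveI : IsIso ((Over.forget _).map ((Scheme.Etale.forget (Spec (CommRingCat.of F))).map
          (EtMV.toTop (pt F K)))) :=
        inferInstanceAs (IsIso (Spec.map (CommRingCat.ofHom (algebraMap F K))))
      exact isIso_of_reflects_iso _ (Over.forget _)
    exact isIso_of_reflects_iso _ (Scheme.Etale.forget _)
  rw [Tmap]
  infer_instance

end Units

section Tower

variable {F : Type u} [Field F] {m : ℕ}
  [PreservesFiniteLimits (EtModD.forgetToAb (GalSym.Coef.{u} m) (Spec (CommRingCat.of F)))]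
  [PreservesFiniteColimits (EtModD.forgetToAb (GalSym.Coef.{u} m) (Spec (CommRingCat.of F)))]
  [(EtModD.forgetToAb (GalSym.Coef.{u} m) (Spec (CommRingCat.of F))).Additive]
  (D : Dat F m)
  (K L : Type u) [Field K] [Field L] [Algebra F K] [Algebra F L] [Algebra K L] [IsScalarTower F K L]
  [FiniteDimensional F K] [Algebra.IsSeparable F K] [FiniteDimensional F L] [Algebra.IsSeparable F L]
  [FiniteDimensional K L]

theorem Tmap_comp : (EtMV.P (Spec (CommRingCat.of F))).map (ptMap F K L) ≫ Tmap K = Tmap L := by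
  rw [Tmap, Tmap, ← Category.assoc, ← Functor.map_comp,
    EtMV.hom_top_ext (ptMap F K L ≫ EtMV.toTop (pt F K)) (EtMV.toTop (pt F L))]

variable [IsGalois K L] (g : L ≃ₐ[K] L) (hg : ∀ x : L ≃ₐ[K] L, x ∈ Subgroup.zpowers g)

theorem exists_sequences (a : Fˣ) (α : L) (hα : α ^ m = algebraMap F L a) (hdeg : Module.finrank K L = m)
    (hgα : g α = algebraMap F L (D.ω : F) * α) :
    ∃ (M : EtCoh.Ab (Spec (CommRingCat.of F))) (p : (EtMV.P _).obj (pt F L) ⟶ M)
      (iM : M ⟶ (EtMV.P _).obj (pt F L)) (z₁ : (galCover F K L g hg).d ≫ p = 0)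
      (z₂ : iM ≫ (galCover F K L g hg).deg = 0) (h₁ : (ShortComplex.mk _ p z₁).ShortExact)
      (h₂ : (ShortComplex.mk iM _ z₂).ShortExact),
      (Ext.mk₀ (Tmap K)).comp (D.cA a) (zero_add 2) =
        h₂.extClass.comp (h₁.extClass.comp (Ext.mk₀ (Tmap K)) (add_zero 1)) (rfl : 1 + 1 = 2) := by
  let X := Spec (CommRingCat.of F)
  let C := galCover F K L g hg
  let p := cokernel.π C.d
  let iM : cokernel C.d ⟶ (EtMV.P X).obj (pt F L) := cokernel.desc C.d C.q C.d_q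
  haveI : Mono iM := (ShortComplex.exact_iff_mono_cokernel_desc _).1 C.exact_d_q
  haveI := C.mono_d
  haveI := C.epi_deg
  have z₁ : C.d ≫ p = 0 := cokernel.condition _
  have h₁ : (ShortComplex.mk C.d p z₁).ShortExact := { exact := ShortComplex.exact_cokernel _ }
  have hp : p ≫ iM = C.q := cokernel.π_desc _ _ _
  have z₂ : iM ≫ C.deg = 0 := by rw [← cancel_epi p, reassoc_of% hp, C.q_deg, comp_zero]
  have h₂ : (ShortComplex.mk iM C.deg z₂).ShortExact := by
    let φ : ShortComplex.mk C.q C.deg C.q_deg ⟶ ShortComplex.mk iM C.deg z₂ :=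
      { τ₁ := p, τ₂ := 𝟙 _, τ₃ := 𝟙 _, comm₁₂ := by simp [hp], comm₂₃ := by simp }
    haveI : Epi φ.τ₁ := inferInstanceAs (Epi p)
    haveI : IsIso φ.τ₂ := inferInstanceAs (IsIso (𝟙 _))
    haveI : Mono φ.τ₃ := inferInstanceAs (Mono (𝟙 _))
    exact { exact := (ShortComplex.exact_iff_of_epi_of_isIso_of_mono φ).1 C.exact_q_deg }
  refine ⟨cokernel C.d, p, iM, z₁, z₂, h₁, h₂, ?_⟩
  have hα0 : α ≠ 0 := by
    rintro rfl
    rw [zero_pow D.m_ne_zero] at hα
    exact a.ne_zero ((algebraMap F L).injective (hα.symm.trans (map_zero _).symm))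
  let A : (EtMV.P X).obj (pt F L) ⟶ EtCoh.Gm X :=
    EtMV.σ.symm (EtPBC.uSect L (Additive.ofMul (Units.mk0 α hα0)))
  have hA : C.deg ≫ Tmap K ≫ Dat.uGm a = A ≫ EtCoh.powMap X m := by
    refine hom_ext_P ?_
    rw [← Category.assoc, show C.deg ≫ Tmap K = Tmap L from Tmap_comp K L]
    refine (sapp_Tmap_uGm L a).trans ?_
    rw [sapp_comp]
    refine Eq.trans ?_ (congrArg (sapp (EtCoh.powMap X m)) (sapp_σsymm _)).symm
    rw [EtCoh.powMap, sapp_nsmul_id, ← map_nsmul, ← ofMul_pow]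
    exact congrArg (fun v => EtPBC.uSect L (Additive.ofMul v)) (Units.ext hα.symm)
  have zg : (iM ≫ A) ≫ EtCoh.powMap X m = 0 := by rw [Category.assoc, ← hA, reassoc_of% z₂, zero_comp]
  let gM : cokernel C.d ⟶ EtCoh.mu X m := kernel.lift _ (iM ≫ A) zg
  have hgM : gM ≫ EtCoh.muι X m = iM ≫ A := kernel.lift_ι _ _ _
  let φ₂ : ShortComplex.mk iM C.deg z₂ ⟶ EtSix.kummerSC X m :=
    { τ₁ := gM, τ₂ := A, τ₃ := Tmap K ≫ Dat.uGm a, comm₁₂ := hgM, comm₂₃ := hA.symm }
  have e₂ := ShortComplex.ShortExact.extClass_naturality h₂ (EtSix.kummerShortExact D.hm) φ₂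
  have hcard : Fintype.card C.G = m := by
    rw [← hdeg, ← IsGalois.card_aut_eq_finrank, Nat.card_eq_fintype_card]
    rfl
  have hq : p ≫ gM ≫ D.y.inv = (C.deg ≫ Tmap K) ≫ EtSix.intToConstΛ (GalSym.Coef.{u} m) X := by
    haveI : Mono (EtCoh.muι X m) := inferInstanceAs (Mono (kernel.ι _))
    rw [← Category.assoc p gM, Iso.comp_inv_eq, ← cancel_mono (EtCoh.muι X m), Category.assoc, hgM,
      reassoc_of% hp, Category.assoc, Category.assoc]
    refine hom_ext_P ?_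
    rw [show C.deg ≫ Tmap K = Tmap L from Tmap_comp K L]
    refine Eq.trans ?_ (sapp_Tmap_comp (K := L) _).symm
    rw [D.sapp_y, res_usect, usect_pt]
    refine (sapp_q_comp C A).trans ?_
    refine (congrArg (fun w => EtFLC.res (EtCoh.Gm X) (EtPBC.galMap F K L g) w - w)
      (sapp_σsymm (EtPBC.uSect L (Additive.ofMul (Units.mk0 α hα0))))).trans ?_
    rw [EtPBC.res_uSect g.toAlgHom.toRingHom (EtPBC.galMap F K L g) rfl, ← map_sub, ← ofMul_div]
    refine congrArg (fun v => EtPBC.uSect L (Additive.ofMul v)) ?_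
    rw [div_eq_iff_eq_mul]
    exact Units.ext hgα
  let φ₁ : ShortComplex.mk C.d p z₁ ⟶ ShortComplex.mk (m • 𝟙 (EtCoh.const X ℤ))
      (EtSix.intToConstΛ (GalSym.Coef.{u} m) X) int_sequence_zero :=
    { τ₁ := Tmap K, τ₂ := C.deg ≫ Tmap K, τ₃ := gM ≫ D.y.inv
      comm₁₂ := by
        change Tmap K ≫ (m • 𝟙 _) = C.d ≫ C.deg ≫ Tmap K
        rw [← Category.assoc, C.d_deg, hcard, Preadditive.comp_nsmul, Category.comp_id, Preadditive.nsmul_comp]
        exact congrArg (m • ·) (Category.id_comp _).symm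
      comm₂₃ := hq.symm }
  have e₁ : h₁.extClass.comp (Ext.mk₀ (Tmap K)) (add_zero 1) =
      (Ext.mk₀ (gM ≫ D.y.inv)).comp D.ε (zero_add 1) :=
    ShortComplex.ShortExact.extClass_naturality h₁ (int_sequence D.m_ne_zero) φ₁
  rw [e₁]
  have e₂' : h₂.extClass.comp (Ext.mk₀ gM) (add_zero 1) =
      (Ext.mk₀ (Tmap K)).comp (D.kum a) (zero_add 1) :=
    e₂.trans (by rw [Dat.kum, Ext.mk₀_comp_mk₀_assoc])
  exact final_aux (Q := (EtMV.P X).obj (pt F K)) (A := (EtMV.P X).obj (pt F K)) (Tmap K) (D.kum a) D.y.inv D.ε gM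
    h₂.extClass rfl e₂'

/-- The norm criterion over `K`. -/
theorem norm_criterion (a b : Fˣ) (α : L) (hα : α ^ m = algebraMap F L a) (hdeg : Module.finrank K L = m)
    (hgα : g α = algebraMap F L (D.ω : F) * α) (hg : ∀ x : L ≃ₐ[K] L, x ∈ Subgroup.zpowers g) :
    (Ext.mk₀ (Tmap K)).comp ((D.cA a).comp (Ext.mk₀ (Dat.uGm b)) (add_zero 2)) (zero_add 2) = 0 ↔
      ∃ y : L, Algebra.norm K y = algebraMap F K (b : F) := by
  obtain ⟨M, p, iM, z₁, z₂, h₁, h₂, hseq⟩ := exists_sequences D K L g hg a α hα hdeg hgα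
  have key : (Ext.mk₀ (Tmap K)).comp ((D.cA a).comp (Ext.mk₀ (Dat.uGm b)) (add_zero 2)) (zero_add 2) =
      h₂.extClass.comp (h₁.extClass.comp (Ext.mk₀ (Tmap K ≫ Dat.uGm b)) (add_zero 1)) (rfl : 1 + 1 = 2) := by
    rw [← Ext.comp_assoc_of_third_deg_zero, hseq, Ext.comp_assoc_of_third_deg_zero, Ext.comp_assoc_of_third_deg_zero,
      Ext.mk₀_comp_mk₀]
  rw [key]
  refine Iff.trans ?_ (d_comp_iff_norm F K L g hg (Units.map (algebraMap F K : F →* K) b) _ (sapp_Tmap_uGm K b))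
  constructor
  · intro h
    obtain ⟨v, hv⟩ := Ext.contravariant_sequence_exact₁ h₂ (EtCoh.Gm (Spec (CommRingCat.of F))) _
      (rfl : 1 + 1 = 2) h
    rw [@Subsingleton.elim _ (EtPBC.subsingleton_ext_Gm_one (k := F) L) v 0, Ext.comp_zero] at hv
    obtain ⟨v₀, hv₀⟩ := Ext.contravariant_sequence_exact₁ h₁ (EtCoh.Gm (Spec (CommRingCat.of F))) _
      (add_zero 1) hv.symm
    obtain ⟨φ, rfl⟩ := (Ext.mk₀_bijective _ _).2 v₀
    rw [Ext.mk₀_comp_mk₀] at hv₀
    exact ⟨φ, (Ext.mk₀_bijective _ _).1 hv₀⟩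
  · rintro ⟨φ, hφ⟩
    rw [show h₁.extClass.comp (Ext.mk₀ (Tmap K ≫ Dat.uGm b)) (add_zero 1) =
        h₁.extClass.comp ((Ext.mk₀ (galCover F K L g hg).d).comp (Ext.mk₀ φ) (zero_add 0)) (add_zero 1) from
      (congrArg (fun f => h₁.extClass.comp (Ext.mk₀ f) (add_zero 1)) hφ.symm).trans (by rw [Ext.mk₀_comp_mk₀]),
      h₁.extClass_comp_assoc, Ext.comp_zero]

/-- Classes killed by a cyclic covering are symbols. -/
theorem kernel_criterion (c : Fˣ) (γ : L) (hγ : γ ^ m = algebraMap F L c) (hdeg : Module.finrank K L = m)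
    (hgγ : g γ = algebraMap F L (D.ω : F) * γ) (hg : ∀ x : L ≃ₐ[K] L, x ∈ Subgroup.zpowers g)
    (x : Ext.{u + 1} (EtCoh.const (Spec (CommRingCat.of F)) ℤ) (EtCoh.Gm (Spec (CommRingCat.of F))) 2)
    (hx : (Ext.mk₀ (Tmap L)).comp x (zero_add 2) = 0) (hK : Function.Bijective (algebraMap F K)) :
    ∃ f : Fˣ, x = (D.cA c).comp (Ext.mk₀ (Dat.uGm f)) (add_zero 2) := by
  obtain ⟨M, p, iM, z₁, z₂, h₁, h₂, hseq⟩ := exists_sequences D K L g hg c γ hγ hdeg hgγ
  obtain ⟨w, hw⟩ := Ext.contravariant_sequence_exact₃ h₂ (EtCoh.Gm (Spec (CommRingCat.of F)))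
    ((Ext.mk₀ (Tmap K)).comp x (zero_add 2)) (by
      rw [Ext.mk₀_comp_mk₀_assoc]
      exact (congrArg (fun f => (Ext.mk₀ f).comp x (zero_add 2)) (Tmap_comp K L)).trans hx) (n₀ := 1) (by omega)
  obtain ⟨v, hv⟩ := Ext.contravariant_sequence_exact₃ h₁ (EtCoh.Gm (Spec (CommRingCat.of F))) w
    (@Subsingleton.elim _ (EtPBC.subsingleton_ext_Gm_one (k := F) L) _ _) (n₀ := 0) (by omega)
  obtain ⟨φ, rfl⟩ := (Ext.mk₀_bijective _ _).2 v
  obtain ⟨u₀, hu₀⟩ := EtPBC.uSect_surjective K (EtMV.σ φ)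
  obtain ⟨f₀, hf₀⟩ := hK.2 ((Additive.toMul u₀ : Kˣ) : K)
  have hf0 : f₀ ≠ 0 := by
    rintro rfl
    exact (Additive.toMul u₀ : Kˣ).ne_zero (hf₀.symm.trans (map_zero _))
  refine ⟨Units.mk0 f₀ hf0, ?_⟩
  have hφ : φ = Tmap K ≫ Dat.uGm (Units.mk0 f₀ hf0) := by
    refine hom_ext_P ?_
    refine (EtMV.σ_eq φ).symm.trans (hu₀.symm.trans (Eq.trans ?_ (sapp_Tmap_uGm K (Units.mk0 f₀ hf0)).symm))
    exact congrArg (fun v => EtPBC.uSect K (Additive.ofMul v)) (Units.ext hf₀.symm)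
  haveI : IsIso (Tmap (F := F) K) := isIso_Tmap K hK
  have h3 : (Ext.mk₀ (Tmap K)).comp x (zero_add 2) =
      (Ext.mk₀ (Tmap K)).comp ((D.cA c).comp (Ext.mk₀ (Dat.uGm (Units.mk0 f₀ hf0))) (add_zero 2)) (zero_add 2) := by
    rw [← hw, ← hv, hφ, ← Ext.comp_assoc_of_third_deg_zero (α := Ext.mk₀ (Tmap K)), hseq,
      Ext.comp_assoc_of_third_deg_zero, Ext.comp_assoc_of_third_deg_zero, Ext.mk₀_comp_mk₀]
  have h4 := congrArg (fun w => (Ext.mk₀ (inv (Tmap (F := F) K))).comp w (zero_add 2)) h3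
  simpa only [Ext.mk₀_comp_mk₀_assoc, IsIso.inv_hom_id, Ext.mk₀_id_comp] using h4

end Tower

end Groth.Agent.GalNorm
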