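import Groth.Agent.GalNorm.Main
import Groth.Agent.MilnorK.ModTransfer
import Mathlib.RingTheory.Polynomial.Resultant.Basic
import Mathlib.FieldTheory.KummerPolynomial

/-! A symbol killed by the Galois symbol is divisible by `p`: the second entry is a norm, that is a resultant. -/

set_option autoImplicit false
set_option linter.style.haveILetI false

universe u

open CategoryTheory CategoryTheory.Limits AlgebraicGeometry Polynomial
open Groth.Agent.MilnorK

noncomputable section

namespace Groth.Agent.GalNorm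

/-- `{A, ±(θ ^ p - A)}` is divisible by `p`. -/
theorem exists_smul_sym_sub {M : Type u} [Field M] (p : ℕ) (hp : p ≠ 0) (A : Mˣ) (θ : M) (v : Mˣ)
    (hv : (v : M) = θ ^ p - A) : ∃ y : MilK.K M 2, MilK.symbol ![A, v] = p • y := by
  rcases eq_or_ne θ 0 with rfl | hθ
  · refine ⟨0, ?_⟩
    rw [smul_zero, show v = -A from Units.ext (by rw [hv, zero_pow hp]; simp), sym_self_neg]
  · let t : Mˣ := Units.mk0 θ hθ
    let w : Mˣ := v * (-A)⁻¹
    have hsum : ((t ^ p * A⁻¹ : Mˣ) : M) + w = 1 := by
      simp only [w, t, Units.val_mul, hv, Units.val_pow_eq_pow_val, Units.val_mk0, Units.val_inv_eq_inv_val,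
        Units.val_neg]
      field_simp [A.ne_zero]
      ring
    have h := sym_stein _ _ hsum
    rw [sym_mul_left, sym_pow_left, sym_inv_left, add_neg_eq_zero] at h
    refine ⟨MilK.symbol ![t, w], ?_⟩
    rw [h, show v = -A * w by simp [w], sym_mul_right, sym_self_neg, zero_add]

theorem coprime_of_pos_of_lt {p d : ℕ} (hp : p.Prime) (h0 : 0 < d) (h : d < p) : d.Coprime p :=
  (hp.coprime_iff_not_dvd.2 fun hd => absurd (Nat.le_of_dvd h0 hd) (not_le.2 h)).symm

/-- `{A, Res(X ^ p - A, g)}` is divisible by `p` for `deg g < p`. -/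
theorem exists_smul_sym_resultant (p : ℕ) [hp : Fact p.Prime] : ∀ (d : ℕ), d < p →
    ∀ (M : Type u) [Field M] (A : Mˣ) (g : M[X]), g.natDegree ≤ d → ∀ v : Mˣ,
      (v : M) = resultant (X ^ p - C (A : M)) g p g.natDegree →
      ∃ y : MilK.K M 2, MilK.symbol ![A, v] = p • y := by
  intro d
  induction d with
  | zero =>
    intro _ M _ A g hg v hv
    obtain ⟨c, rfl⟩ := natDegree_eq_zero.1 (Nat.le_zero.1 hg)
    rw [natDegree_C, resultant_zero_right_deg, coeff_C_zero] at hv
    have hc : c ≠ 0 := by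
      rintro rfl
      exact v.ne_zero (by rw [hv, zero_pow hp.out.ne_zero])
    exact ⟨MilK.symbol ![A, Units.mk0 c hc], by
      rw [← sym_pow_right, show v = Units.mk0 c hc ^ p from Units.ext (by simp [hv])]⟩
  | succ d ih =>
    intro hdp M _ A g hg v hv
    by_cases hle : g.natDegree ≤ d
    · exact ih (d.lt_succ_self.trans hdp) M A g hle v hv
    have hge : g.natDegree = d + 1 := by omega
    obtain ⟨q, hq, hqg⟩ := exists_irreducible_of_natDegree_pos (f := g) (by omega)
    haveI : Fact (Irreducible q) := ⟨hq⟩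
    have hg0 : g ≠ 0 := by
      rintro rfl
      simp at hge
    let pb := AdjoinRoot.powerBasis hq.ne_zero
    haveI : FiniteDimensional M (AdjoinRoot q) := pb.finite
    have hfr : Module.finrank M (AdjoinRoot q) = q.natDegree := by
      rw [pb.finrank, AdjoinRoot.powerBasis_dim]
    have hcop : (Module.finrank M (AdjoinRoot q)).Coprime p := by
      refine coprime_of_pos_of_lt hp.out (hfr ▸ hq.natDegree_pos) ?_
      rw [hfr]
      exact lt_of_le_of_lt ((natDegree_le_of_dvd hqg hg0).trans hg) hdp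
    let φ := algebraMap M (AdjoinRoot q)
    have hroot : (g.map φ).IsRoot (AdjoinRoot.root q) :=
      (AdjoinRoot.isRoot_root q).dvd (Polynomial.map_dvd φ hqg)
    obtain ⟨g₁, hg₁⟩ := dvd_iff_isRoot.2 hroot
    have hg₁0 : g₁ ≠ 0 := by
      rintro rfl
      exact hg0 ((Polynomial.map_eq_zero φ).1 (by rw [hg₁, mul_zero]))
    have hd₁ : g₁.natDegree = d := by
      have h := congrArg natDegree hg₁
      rw [natDegree_map, natDegree_mul (X_sub_C_ne_zero _) hg₁0, natDegree_X_sub_C, hge] at h
      omega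
    let f : (AdjoinRoot q)[X] := X ^ p - C (φ A)
    have hf : f.natDegree ≤ p := le_of_eq natDegree_X_pow_sub_C
    have hφv : φ v = (-1) ^ p * (AdjoinRoot.root q ^ p - φ A) * resultant f g₁ p g₁.natDegree := by
      have h1 := resultant_mul_right f (X - C (AdjoinRoot.root q)) g₁ p hf
      rw [natDegree_X_sub_C, resultant_X_sub_C_right f p _ hf, ← hg₁] at h1
      rw [hv, ← resultant_map_map, Polynomial.map_sub, Polynomial.map_pow, Polynomial.map_X, Polynomial.map_C,
        hge, show d + 1 = 1 + g₁.natDegree by omega]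
      simpa [f] using h1
    have hne : φ v ≠ 0 := (map_ne_zero φ).2 v.ne_zero
    rw [hφv, mul_ne_zero_iff, mul_ne_zero_iff] at hne
    let A' : (AdjoinRoot q)ˣ := Units.map (φ : M →* AdjoinRoot q) A
    obtain ⟨y₁, hy₁⟩ := exists_smul_sym_sub p hp.out.ne_zero A' (AdjoinRoot.root q) (Units.mk0 _ hne.1.2) rfl
    obtain ⟨y₂, hy₂⟩ := ih (d.lt_succ_self.trans hdp) (AdjoinRoot q) A' g₁ hd₁.le (Units.mk0 _ hne.2) rfl
    refine exists_smul_of_map p hcop _ (MilK.symbol ![A', -1] + y₁ + y₂) ?_
    rw [map_sym, show Units.map (algebraMap M (AdjoinRoot q) : M →* AdjoinRoot q) v =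
        (-1) ^ p * Units.mk0 _ hne.1.2 * Units.mk0 _ hne.2 from Units.ext (by simpa [φ, AdjoinRoot.algebraMap_eq] using hφv),
      sym_mul_right, sym_mul_right, sym_pow_right, hy₁, hy₂, smul_add, smul_add]

/-- The norm from `F(a ^ (1/p))` as a resultant. -/
theorem norm_aeval_eq_resultant {F : Type u} [Field F] {p : ℕ} (hp0 : (p : F) ≠ 0) (a : F) (ha : a ≠ 0)
    [hirr : Fact (Irreducible (X ^ p - C a : F[X]))] (g : F[X]) :
    Algebra.norm F (aeval (AdjoinRoot.root (X ^ p - C a : F[X])) g) =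
      resultant (X ^ p - C a) g p g.natDegree := by
  classical
  have hp : 0 < p := Nat.pos_of_ne_zero fun h => hp0 (by simp [h])
  set f : F[X] := X ^ p - C a with hfdef
  have hfm : f.Monic := monic_X_pow_sub_C a hp.ne'
  have hfs : f.Separable := separable_X_pow_sub_C a hp0 ha
  let pb := AdjoinRoot.powerBasis hfm.ne_zero
  have hmin : minpoly F pb.gen = f := by
    rw [AdjoinRoot.powerBasis_gen, AdjoinRoot.minpoly_root hfm.ne_zero, hfm.leadingCoeff, inv_one, map_one, mul_one]
  haveI : FiniteDimensional F (AdjoinRoot f) := pb.finite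
  haveI : Algebra.IsSeparable F (AdjoinRoot f) := by
    have h : IsSeparable F pb.gen := by
      rw [IsSeparable, hmin]; exact hfs
    have := (IntermediateField.isSeparable_adjoin_simple_iff_isSeparable F _).2 h
    have htop : IntermediateField.adjoin F {pb.gen} = ⊤ :=
      IntermediateField.adjoin_eq_top_of_algebra _ _ (by rw [pb.adjoin_gen_eq_top])
    rw [htop] at this
    exact Algebra.IsSeparable.of_algHom _ _ IntermediateField.topEquiv.symm.toAlgHom
  let Ω := AlgebraicClosure F
  apply (algebraMap F Ω).injective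
  rw [Algebra.norm_eq_prod_embeddings F Ω, ← resultant_map_map]
  have hfΩ : (f.map (algebraMap F Ω)).natDegree = p := by
    rw [natDegree_map, natDegree_X_pow_sub_C]
  have h2 := resultant_eq_prod_eval (f.map (algebraMap F Ω)) (g.map (algebraMap F Ω)) g.natDegree
    natDegree_map_le (IsAlgClosed.splits _)
  rw [hfΩ, (hfm.map _).leadingCoeff, one_pow, one_mul] at h2
  rw [h2]
  have hnd : (f.aroots Ω).Nodup := nodup_roots hfs.map
  show _ = ∏ r ∈ (⟨f.aroots Ω, hnd⟩ : Finset Ω), (g.map (algebraMap F Ω)).eval r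
  refine Finset.prod_bij (fun σ _ => σ pb.gen) (fun σ _ => ?_) (fun σ _ τ _ h => ?_) (fun r hr => ?_) (fun σ _ => ?_)
  · show σ pb.gen ∈ f.aroots Ω
    rw [mem_aroots]
    refine ⟨hfm.ne_zero, ?_⟩
    have h := congrArg σ (minpoly.aeval F pb.gen)
    rw [hmin, map_zero] at h
    exact (aeval_algHom_apply σ pb.gen f).trans h
  · exact pb.algHom_ext h
  · refine ⟨pb.lift r ?_, Finset.mem_univ _, pb.lift_gen _ _⟩
    rw [hmin]
    exact (mem_aroots.1 hr).2
  · rw [eval_map_algebraMap, aeval_algHom_apply]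
    simp [pb]
    rfl

variable {F : Type u} [Field F] {p : ℕ} [Fact p.Prime]
  [PreservesFiniteLimits (EtModD.forgetToAb (GalSym.Coef.{u} p) (Spec (CommRingCat.of F)))]
  [PreservesFiniteColimits (EtModD.forgetToAb (GalSym.Coef.{u} p) (Spec (CommRingCat.of F)))]
  [(EtModD.forgetToAb (GalSym.Coef.{u} p) (Spec (CommRingCat.of F))).Additive]
  (D : Dat F p)

/-- A symbol killed by the Galois symbol is divisible by `p`. -/
theorem Dat.exists_smul_of_symbol_eq_zero (a b : Fˣ) (hab : D.h 2 (MilK.symbol ![a, b]) = 0) :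
    ∃ y : MilK.K F 2, MilK.symbol ![a, b] = p • y := by
  have hp : p.Prime := Fact.out
  by_cases hpow : ∃ c : F, c ^ p = a
  · obtain ⟨c, hc⟩ := hpow
    have hc0 : c ≠ 0 := by
      rintro rfl
      exact a.ne_zero (hc.symm.trans (zero_pow hp.ne_zero))
    exact ⟨MilK.symbol ![Units.mk0 c hc0, b], by
      rw [← sym_pow_left, show Units.mk0 c hc0 ^ p = a from Units.ext (by simp [hc])]⟩
  push Not at hpow
  have hirr := X_pow_sub_C_irreducible_of_prime hp hpow
  haveI := Fact.mk hirr
  let f : F[X] := X ^ p - C (a : F)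
  have hfm : f.Monic := monic_X_pow_sub_C _ hp.ne_zero
  let pb := AdjoinRoot.powerBasis hfm.ne_zero
  have hdeg : Module.finrank F (AdjoinRoot f) = p := by
    rw [pb.finrank, AdjoinRoot.powerBasis_dim, natDegree_X_pow_sub_C]
  have hα : AdjoinRoot.root f ^ p = algebraMap F (AdjoinRoot f) a := by
    have h : aeval (AdjoinRoot.root f) f = 0 := by rw [AdjoinRoot.aeval_eq, AdjoinRoot.mk_self]
    have e := (map_sub (aeval (AdjoinRoot.root f)) (X ^ p) (C (a : F))).symm.trans h
    rw [map_pow, aeval_X, aeval_C, sub_eq_zero] at e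
    exact e
  have hK : IntermediateField.adjoin F {AdjoinRoot.root f} = ⊤ :=
    IntermediateField.adjoin_eq_top_of_algebra _ _ (AdjoinRoot.adjoinRoot_eq_top)
  obtain ⟨c, hc⟩ := (D.symbol_eq_zero_iff_norm a b (AdjoinRoot f) _ hα hK hdeg).1 hab
  obtain ⟨g₀, rfl⟩ := AdjoinRoot.mk_surjective c
  let g := g₀ %ₘ f
  have hg : g.natDegree < p := (natDegree_modByMonic_lt g₀ hfm
    (fun h => hirr.not_isUnit (by rw [show X ^ p - C (a : F) = f from rfl, h]; exact isUnit_one))).trans_eq
      natDegree_X_pow_sub_C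
  refine exists_smul_sym_resultant p g.natDegree hg F a g le_rfl b ?_
  rw [← norm_aeval_eq_resultant D.hm0 (a : F) a.ne_zero g, ← hc]
  congr 1
  rw [AdjoinRoot.aeval_eq, AdjoinRoot.mk_eq_mk]
  exact ⟨g₀ /ₘ f, by rw [sub_eq_iff_eq_add', modByMonic_add_div]⟩

end Groth.Agent.GalNorm
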