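import Groth.Agent.GalNorm.Crit

/-! The norm criterion for the Galois symbol in degree two. -/

set_option autoImplicit false
set_option backward.isDefEq.respectTransparency false
set_option backward.isDefEq.respectTransparency.types false
set_option linter.style.haveILetI false
set_option linter.auxLemma false

universe u

open CategoryTheory CategoryTheory.Limits CategoryTheory.Abelian AlgebraicGeometry Opposite

noncomputable section

namespace Groth.Agent.GalNorm

attribute [local instance 100000] EtCoh.H._proof_1 EtMV.hext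
attribute [local instance 200000] EtMV.hextAb

variable {F : Type u} [Field F] {m : ℕ}
  [PreservesFiniteLimits (EtModD.forgetToAb (GalSym.Coef.{u} m) (Spec (CommRingCat.of F)))]
  [PreservesFiniteColimits (EtModD.forgetToAb (GalSym.Coef.{u} m) (Spec (CommRingCat.of F)))]
  [(EtModD.forgetToAb (GalSym.Coef.{u} m) (Spec (CommRingCat.of F))).Additive]
  (D : Dat F m)

/-- `h_2{a, b} = 0` iff `b` is a norm from `F(a^{1/m})`. -/
theorem Dat.symbol_eq_zero_iff_norm (a b : Fˣ) (K : Type u) [Field K] [Algebra F K] (α : K)
    (hα : α ^ m = algebraMap F K a) (hKα : IntermediateField.adjoin F {α} = ⊤) (hdeg : Module.finrank F K = m) :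
    D.h 2 (MilK.symbol ![a, b]) = 0 ↔ ∃ c : K, Algebra.norm F c = (b : F) := by
  haveI : FiniteDimensional F K :=
    Module.finite_of_finrank_pos (by rw [hdeg]; exact Nat.pos_of_ne_zero D.m_ne_zero)
  obtain ⟨hG, g, hg, hgα⟩ := exists_kummer_gen F K m (D.ω : F) D.hω (a : F) α hα hKα hdeg
  haveI := hG
  rw [D.symbol_eq_zero_iff]
  refine Iff.trans ?_ (norm_criterion D F K g a b α hα hdeg hgα hg)
  haveI : IsIso (Tmap (F := F) F) := isIso_Tmap F Function.bijective_id
  constructor
  · intro h
    rw [h, Ext.comp_zero]
  · intro h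
    have h4 := congrArg (fun w => (Ext.mk₀ (inv (Tmap (F := F) F))).comp w (zero_add 2)) h
    simpa only [Ext.mk₀_comp_mk₀_assoc, IsIso.inv_hom_id, Ext.mk₀_id_comp, Ext.comp_zero] using h4

end Groth.Agent.GalNorm
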