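import Groth.Agent.EtFLC.Site
import Mathlib.CategoryTheory.Abelian.Exact
import Mathlib.CategoryTheory.Sites.EpiMono

/-! Elementwise criteria for sequences of abelian etale sheaves. -/

set_option autoImplicit false
set_option backward.isDefEq.respectTransparency false

universe u

open CategoryTheory CategoryTheory.Limits AlgebraicGeometry Opposite

noncomputable section

namespace Groth.Agent.GalNorm

variable {X : Scheme.{u}}

/-- Application of a morphism of sheaves to a section. -/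
abbrev sapp {F G : EtCoh.Ab X} (φ : F ⟶ G) {V : X.Etale} (s : EtCoh.sect F V) : EtCoh.sect G V :=
  (φ.hom.app (op V)).hom s

theorem sapp_comp {F G H : EtCoh.Ab X} (φ : F ⟶ G) (ψ : G ⟶ H) {V : X.Etale} (s : EtCoh.sect F V) :
    sapp (φ ≫ ψ) s = sapp ψ (sapp φ s) := rfl

theorem sapp_nsmul_id (F : EtCoh.Ab X) (n : ℕ) {V : X.Etale} (s : EtCoh.sect F V) :
    sapp (n • 𝟙 F) s = n • s := rfl

theorem epi_of_local {F G : EtCoh.Ab X} (φ : F ⟶ G)
    (h : ∀ (V : X.Etale) (s : EtCoh.sect G V) (v : V.left),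
      ∃ (W : X.Etale) (g : W ⟶ V) (w : W.left) (t : EtCoh.sect F W), g.left w = v ∧ sapp φ t = EtFLC.res G g s) :
    Epi φ := by
  haveI : Sheaf.IsLocallySurjective φ := ⟨fun {V} s => (EtFLC.mem_iff _).2 fun v => by
    obtain ⟨W, g, w, t, hw, ht⟩ := h V s v
    exact ⟨W, g, w, ⟨t, ht⟩, hw⟩⟩
  exact (Sheaf.isLocallySurjective_iff_epi' _ φ).1 inferInstance

theorem mono_of_injective {F G : EtCoh.Ab X} (φ : F ⟶ G)
    (h : ∀ (V : X.Etale), Function.Injective (fun s : EtCoh.sect F V => sapp φ s)) : Mono φ := by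
  haveI : ∀ V, Mono (φ.hom.app V) := fun V => (AddCommGrpCat.mono_iff_injective _).2 (h V.unop)
  haveI : Mono φ.hom := NatTrans.mono_of_mono_app _
  exact (sheafToPresheaf X.smallEtaleTopology AddCommGrpCat.{u + 1}).mono_of_mono_map ‹_›

theorem exact_of_local {A B C : EtCoh.Ab X} (f : A ⟶ B) (g : B ⟶ C) (z : f ≫ g = 0)
    (h : ∀ (V : X.Etale) (s : EtCoh.sect B V), sapp g s = 0 → ∀ v : V.left,
      ∃ (W : X.Etale) (p : W ⟶ V) (w : W.left) (t : EtCoh.sect A W), p.left w = v ∧ sapp f t = EtFLC.res B p s) :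
    (ShortComplex.mk f g z).Exact := by
  rw [ShortComplex.exact_iff_epi_kernel_lift]
  refine epi_of_local _ fun V k v => ?_
  have hk : sapp g (sapp (kernel.ι g) k) = 0 := by
    rw [← sapp_comp, kernel.condition]
    rfl
  obtain ⟨W, p, w, t, hw, ht⟩ := h V _ hk v
  refine ⟨W, p, w, t, hw, EtFLC.app_injective (kernel.ι g) W ?_⟩
  change sapp (kernel.lift g f z ≫ kernel.ι g) t = sapp (kernel.ι g) (EtFLC.res _ p k)
  rw [kernel.lift_ι, ht]
  exact (EtFLC.app_res _ p k).symm

end Groth.Agent.GalNorm
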