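import Groth.Prelude.Def_SixF2
import Groth.Agent.EtTrivGen.Tensor
import Groth.Agent.EtStalk.Conservative
import Groth.Agent.GalNorm.Abst

/-!
The left unit isomorphism `A ≅ Λ_X ⊗ A` of sheaves of modules, and the cup product of degree one classes with
coefficients in a trivial rank one sheaf as a Yoneda product.
-/

set_option autoImplicit false
set_option backward.isDefEq.respectTransparency false
set_option backward.isDefEq.respectTransparency.types false
set_option linter.style.haveILetI false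

universe u

open CategoryTheory CategoryTheory.Limits CategoryTheory.Abelian AlgebraicGeometry Opposite MonoidalCategory

noncomputable section

namespace Groth.Agent.GalNorm

variable {Λ : Type (u + 1)} [CommRing Λ] {X : Scheme.{u}}

/-- `1` as a map from the constant presheaf. -/
abbrev onePre (Λ : Type (u + 1)) [CommRing Λ] (X : Scheme.{u}) :
    (𝟙_ (X.Etaleᵒᵖ ⥤ ModuleCat.{u + 1} Λ)) ⟶ (EtSix.constΛ Λ X).obj :=
  toSheafify X.smallEtaleTopology ((Functor.const (X.Etaleᵒᵖ)).obj (ModuleCat.of Λ Λ))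

/-- The left unit map `A ⟶ Λ_X ⊗ A`. -/
def lam (Λ : Type (u + 1)) [CommRing Λ] (X : Scheme.{u}) :
    𝟭 (EtModW.Mod Λ X) ⟶ (EtModD.tensorBi Λ X).obj (EtSix.constΛ Λ X) where
  app A := ⟨((λ_ A.obj).inv ≫ onePre Λ X ▷ A.obj) ≫
    toSheafify X.smallEtaleTopology ((EtSix.constΛ Λ X).obj ⊗ A.obj)⟩
  naturality A B f := by
    apply ObjectProperty.hom_ext
    change f.hom ≫ (((λ_ B.obj).inv ≫ onePre Λ X ▷ B.obj) ≫ toSheafify _ _) =
      (((λ_ A.obj).inv ≫ onePre Λ X ▷ A.obj) ≫ toSheafify _ _) ≫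
        sheafifyMap X.smallEtaleTopology ((EtSix.constΛ Λ X).obj ◁ f.hom)
    simp only [Category.assoc]
    rw [← toSheafify_naturality, ← whisker_exchange_assoc, leftUnitor_inv_naturality_assoc]

theorem isIso_lam_app (A : EtModW.Mod Λ X) : IsIso ((lam Λ X).app A) := by
  refine Sheaf.isLocallyBijective_iff_isIso _ |>.1 ?_
  have key : ∀ (Ω : Type u) [Field Ω] [IsSepClosed Ω] (ξ : Spec (CommRingCat.of Ω) ⟶ X),
      Function.Bijective ((Scheme.pointSmallEtale ξ).presheafFiber.map ((lam Λ X).app A).hom) := by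
    intro Ω _ _ ξ
    let Φ := Scheme.pointSmallEtale ξ
    haveI h₁ : IsIso (Φ.presheafFiber.map (onePre Λ X)) :=
      Φ.W_isInvertedBy_presheafFiber' _ (X.smallEtaleTopology.W_toSheafify _)
    haveI h₂ : IsIso (Φ.presheafFiber.map (toSheafify X.smallEtaleTopology ((EtSix.constΛ Λ X).obj ⊗ A.obj))) :=
      Φ.W_isInvertedBy_presheafFiber' _ (X.smallEtaleTopology.W_toSheafify _)
    haveI h₃ : IsIso (Φ.presheafFiber.map (onePre Λ X ▷ A.obj)) := by
      rw [Functor.Monoidal.map_whiskerRight]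
      infer_instance
    haveI : IsIso (Φ.presheafFiber.map ((lam Λ X).app A).hom) := by
      change IsIso (Φ.presheafFiber.map (((λ_ A.obj).inv ≫ onePre Λ X ▷ A.obj) ≫ toSheafify _ _))
      rw [Functor.map_comp, Functor.map_comp]
      infer_instance
    exact ConcreteCategory.bijective_of_isIso (Φ.presheafFiber.map ((lam Λ X).app A).hom)
  exact ⟨EtStalk.isLocallyInjective_of_stalk _ fun Ω _ _ ξ => (key Ω ξ).1,
    EtStalk.isLocallySurjective_of_stalk _ fun Ω _ _ ξ => (key Ω ξ).2⟩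

/-- The right and left unit maps agree on `Λ_X`. -/
theorem unitMap_constΛ : EtSix.unitMap (EtSix.constΛ Λ X) = (lam Λ X).app (EtSix.constΛ Λ X) := by
  apply ObjectProperty.hom_ext
  apply sheafify_hom_ext _ _ _ (((EtModD.tensorBi Λ X).obj (EtSix.constΛ Λ X)).obj (EtSix.constΛ Λ X)).property
  change onePre Λ X ≫ ((ρ_ (EtSix.constΛ Λ X).obj).inv ≫ _ ◁ onePre Λ X) ≫ toSheafify _ _ =
    onePre Λ X ≫ ((λ_ (EtSix.constΛ Λ X).obj).inv ≫ onePre Λ X ▷ _) ≫ toSheafify _ _
  rw [Category.assoc, Category.assoc, rightUnitor_inv_naturality_assoc, leftUnitor_inv_naturality_assoc,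
    whisker_exchange_assoc, unitors_inv_equal]

theorem unitMap_naturality {A B : EtModW.Mod Λ X} (f : A ⟶ B) :
    f ≫ EtSix.unitMap B = EtSix.unitMap A ≫ ((EtModD.tensorBi Λ X).map f).app (EtSix.constΛ Λ X) := by
  apply ObjectProperty.hom_ext
  change f.hom ≫ ((ρ_ B.obj).inv ≫ B.obj ◁ onePre Λ X) ≫ toSheafify _ _ =
    (((ρ_ A.obj).inv ≫ A.obj ◁ onePre Λ X) ≫ toSheafify _ _) ≫
      sheafifyMap X.smallEtaleTopology (f.hom ▷ (EtSix.constΛ Λ X).obj)
  simp only [Category.assoc]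
  rw [← toSheafify_naturality, whisker_exchange_assoc, rightUnitor_inv_naturality_assoc]

section Twist

variable {μ : EtModW.Mod Λ X} (t : EtSix.constΛ Λ X ≅ μ)

/-- `A ⟶ μ ⊗ A` for a trivialised `μ`. -/
def twistUnit : 𝟭 (EtModW.Mod Λ X) ⟶ (EtModD.tensorBi Λ X).obj μ :=
  lam Λ X ≫ (EtModD.tensorBi Λ X).map t.hom

theorem isIso_twistUnit_app (A : EtModW.Mod Λ X) : IsIso ((twistUnit t).app A) := by
  haveI := isIso_lam_app A
  rw [twistUnit, NatTrans.comp_app]
  infer_instance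

theorem unitMap_eq : EtSix.unitMap μ = t.inv ≫ (twistUnit t).app (EtSix.constΛ Λ X) := by
  rw [← cancel_epi t.hom, Iso.hom_inv_id_assoc, unitMap_naturality, unitMap_constΛ]
  rfl

theorem mapExact_id {C : Type*} [Category C] [Abelian C] [HasExt C] {A B : C} (β : Ext A B 1) :
    β.mapExactFunctor (𝟭 C) = β := by
  obtain ⟨E, e, he, hk⟩ := DerPlus.exists_epi_killing 0 β
  let S := ShortComplex.mk _ _ (kernel.condition e)
  have hS : S.ShortExact := { exact := ShortComplex.exact_kernel e }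
  obtain ⟨γ, hγ⟩ := Ext.contravariant_sequence_exact₃ hS B β hk (n₀ := 0) (by omega)
  obtain ⟨g, rfl⟩ := (Ext.mk₀_bijective _ _).2 γ
  subst hγ
  rw [Ext.mapExactFunctor_comp, Ext.mapExactFunctor_extClass, Ext.mapExactFunctor_mk₀]
  rfl

/-- The cup product of two degree one classes with values in a trivialised `μ` as a Yoneda product. -/
theorem cup_eq [PreservesFiniteLimits ((EtModD.tensorBi Λ X).obj μ)]
    [PreservesFiniteColimits ((EtModD.tensorBi Λ X).obj μ)]
    (α : EtSix.HMod Λ X μ 1) (β : EtSix.HMod Λ X μ 1) :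
    EtSix.cup μ μ 1 1 (rfl : 1 + 1 = 2) α β =
      ((α.comp (Ext.mk₀ t.inv) (add_zero 1)).comp β (rfl : 1 + 1 = 2)).comp
        (Ext.mk₀ ((twistUnit t).app μ)) (add_zero 2) := by
  change α.comp ((Ext.mk₀ (EtSix.unitMap μ)).comp (Ext.mapExactFunctor _ β) (zero_add 1)) rfl = _
  have h := mapExt_natTrans (𝟭 _) ((EtModD.tensorBi Λ X).obj μ) (twistUnit t) β
  rw [mapExact_id] at h
  rw [unitMap_eq t, ← Ext.mk₀_comp_mk₀, Ext.comp_assoc_of_second_deg_zero, ← h,
    Ext.comp_assoc_of_second_deg_zero, ← Ext.comp_assoc_of_third_deg_zero, ← Ext.comp_assoc_of_third_deg_zero]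

end Twist

end Groth.Agent.GalNorm
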