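import Groth.Prelude.Def_GSzGalSym
import Groth.Agent.GalNorm.Unit
import Groth.Agent.GalNorm.Mu
import Groth.Agent.Misc3.KummerField

/-!
The Galois symbol in degree two, read in `H²(F, G_m)`: an injective map sending `{a, b}` to
`-(∂a ∪ b)`, `∂a` the image in `H²(F, ℤ)` of the Kummer class of `a`.
-/

set_option autoImplicit false
set_option backward.isDefEq.respectTransparency false
set_option backward.isDefEq.respectTransparency.types false
set_option linter.style.haveILetI false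
set_option linter.auxLemma false

universe u

open CategoryTheory CategoryTheory.Limits CategoryTheory.Abelian AlgebraicGeometry Opposite

noncomputable section

namespace Groth.Agent.GalNorm

attribute [local instance 100000] EtCoh.H._proof_1 EtMV.hext
attribute [local instance 200000] EtMV.hextAb

theorem comp_assoc_aux {C : Type*} [Category C] [Abelian C] [HasExt C] {A B S₁ S₃ M M' : C} (i : A ⟶ B)
    (f : B ⟶ S₃) (δ : Ext S₃ S₁ 1) (e : S₁ ⟶ M) (e' : M ⟶ M') :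
    ((Ext.mk₀ i).comp (((Ext.mk₀ f).comp δ (zero_add 1)).comp (Ext.mk₀ e) (add_zero 1)) (zero_add 1)).comp
        (Ext.mk₀ e') (add_zero 1) =
      ((Ext.mk₀ (i ≫ f)).comp δ (zero_add 1)).comp (Ext.mk₀ (e ≫ e')) (add_zero 1) := by
  simp only [Ext.comp_assoc_of_second_deg_zero, Ext.comp_assoc_of_third_deg_zero, Ext.mk₀_comp_mk₀,
    Ext.mk₀_comp_mk₀_assoc]

/-- The data of the Galois symbol statements. -/
structure Dat (F : Type u) [Field F] (m : ℕ)
    [PreservesFiniteLimits (EtModD.forgetToAb (GalSym.Coef.{u} m) (Spec (CommRingCat.of F)))]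
    [PreservesFiniteColimits (EtModD.forgetToAb (GalSym.Coef.{u} m) (Spec (CommRingCat.of F)))]
    [(EtModD.forgetToAb (GalSym.Coef.{u} m) (Spec (CommRingCat.of F))).Additive] where
  hm0 : (m : F) ≠ 0
  ω : Fˣ
  hω : IsPrimitiveRoot (ω : F) m
  μ : EtModW.Mod (GalSym.Coef.{u} m) (Spec (CommRingCat.of F))
  e : (EtModD.forgetToAb (GalSym.Coef.{u} m) (Spec (CommRingCat.of F))).obj μ ≅ EtCoh.mu (Spec (CommRingCat.of F)) m
  hm : Epi (EtCoh.powMap (Spec (CommRingCat.of F)) m)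
  [tfl : PreservesFiniteLimits ((EtModD.tensorBi (GalSym.Coef.{u} m) (Spec (CommRingCat.of F))).obj μ)]
  [tfc : PreservesFiniteColimits ((EtModD.tensorBi (GalSym.Coef.{u} m) (Spec (CommRingCat.of F))).obj μ)]
  χ : Additive Fˣ →+ EtSix.HMod (GalSym.Coef.{u} m) (Spec (CommRingCat.of F)) μ 1
  hχ : GalSym.IsKummerMap F m μ e hm χ
  h : (n : ℕ) → MilK.K F n →+ EtSix.HMod (GalSym.Coef.{u} m) (Spec (CommRingCat.of F)) (GalSym.muPow μ n) n
  hh : GalSym.IsGaloisSymbol F m μ χ h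

attribute [instance] Dat.tfl Dat.tfc

namespace Dat

variable {F : Type u} [Field F] {m : ℕ}
    [PreservesFiniteLimits (EtModD.forgetToAb (GalSym.Coef.{u} m) (Spec (CommRingCat.of F)))]
    [PreservesFiniteColimits (EtModD.forgetToAb (GalSym.Coef.{u} m) (Spec (CommRingCat.of F)))]
    [(EtModD.forgetToAb (GalSym.Coef.{u} m) (Spec (CommRingCat.of F))).Additive]
  (D : Dat F m)

local notation "XF" => Spec (CommRingCat.of F)

theorem m_ne_zero (D : Dat F m) : m ≠ 0 := fun h => D.hm0 (by simp [h])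

/-- The trivialisation given by the root of unity. -/
def t : EtSix.constΛ (GalSym.Coef.{u} m) (Spec (CommRingCat.of F)) ≅ D.μ :=
  (exists_trivialization D.hm0 D.hω D.μ D.e).choose

/-- The composite `Λ ≅ μ_m`. -/
def y : (EtModD.forgetToAb (GalSym.Coef.{u} m) (Spec (CommRingCat.of F))).obj
    (EtSix.constΛ (GalSym.Coef.{u} m) (Spec (CommRingCat.of F))) ≅ EtCoh.mu (Spec (CommRingCat.of F)) m :=
  (EtModD.forgetToAb (GalSym.Coef.{u} m) (Spec (CommRingCat.of F))).mapIso D.t ≪≫ D.e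

theorem sapp_y :
    sapp (EtSix.intToConstΛ (GalSym.Coef.{u} m) (Spec (CommRingCat.of F)) ≫ D.y.hom ≫
      EtCoh.muι (Spec (CommRingCat.of F)) m) (EtMV.one _) = usect (EtCoh.top _) D.ω := by
  have h := (exists_trivialization D.hm0 D.hω D.μ D.e).choose_spec
  rw [y, Iso.trans_hom, Functor.mapIso_hom, Category.assoc]
  exact h

/-- The class of `0 → ℤ → ℤ → ℤ/m → 0`. -/
def ε : Ext.{u + 1} ((EtModD.forgetToAb (GalSym.Coef.{u} m) (Spec (CommRingCat.of F))).obj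
    (EtSix.constΛ (GalSym.Coef.{u} m) (Spec (CommRingCat.of F)))) (EtCoh.const (Spec (CommRingCat.of F)) ℤ) 1 :=
  (int_sequence (X := Spec (CommRingCat.of F)) D.m_ne_zero).extClass

/-- A unit as a map `ℤ → G_m`. -/
def uGm (b : Fˣ) : EtCoh.const (Spec (CommRingCat.of F)) ℤ ⟶ EtCoh.Gm (Spec (CommRingCat.of F)) :=
  GalSym.unitMor (Spec (CommRingCat.of F)) (GalSym.specUnit F b)

/-- The Kummer class. -/
def kum (a : Fˣ) : Ext.{u + 1} (EtCoh.const (Spec (CommRingCat.of F)) ℤ) (EtCoh.mu (Spec (CommRingCat.of F)) m) 1 :=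
  (Ext.mk₀ (uGm a)).comp (EtSix.kummerShortExact D.hm).extClass (zero_add 1)

theorem kum_eq (a : Fˣ) :
    (EtSix.HModToH (GalSym.Coef.{u} m) D.μ 1 (D.χ (Additive.ofMul a))).comp (Ext.mk₀ D.e.hom) (add_zero 1) =
      D.kum a := D.hχ a

/-- The class in `H²(F, ℤ)` of the cyclic character of `a`. -/
def cA (a : Fˣ) : Ext.{u + 1} (EtCoh.const (Spec (CommRingCat.of F)) ℤ) (EtCoh.const (Spec (CommRingCat.of F)) ℤ) 2 :=
  ((D.kum a).comp (Ext.mk₀ D.y.inv) (add_zero 1)).comp D.ε (rfl : 1 + 1 = 2)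

theorem mapExact_χ_comp (b : Fˣ) :
    ((D.χ (Additive.ofMul b)).mapExactFunctor (EtModD.forgetToAb (GalSym.Coef.{u} m) (Spec (CommRingCat.of F)))).comp
        (Ext.mk₀ (D.e.hom ≫ EtCoh.muι (Spec (CommRingCat.of F)) m)) (add_zero 1) =
      - D.ε.comp (Ext.mk₀ (uGm b)) (add_zero 1) := by
  set U := EtModD.forgetToAb (GalSym.Coef.{u} m) (Spec (CommRingCat.of F))
  obtain ⟨S, hS, -, e₁, f, hrep⟩ := exists_inj_rep (D.χ (Additive.ofMul b))
  have hK := EtSix.kummerShortExact D.hm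
  obtain ⟨K, fT, n, pr, z, hT, hf, hpr, hcl⟩ := exists_pullback_ext hK (uGm b)
  have hmap : (D.χ (Additive.ofMul b)).mapExactFunctor U =
      ((Ext.mk₀ (U.map f)).comp (hS.map_of_exact U).extClass (zero_add 1)).comp (Ext.mk₀ (U.map e₁.hom))
        (add_zero 1) := by
    rw [hrep, Ext.mapExactFunctor_comp, Ext.mapExactFunctor_comp, Ext.mapExactFunctor_mk₀,
      Ext.mapExactFunctor_extClass, Ext.mapExactFunctor_mk₀]
  have hk : D.kum b = (((Ext.mk₀ (EtSix.intToConstΛ (GalSym.Coef.{u} m) (Spec (CommRingCat.of F)) ≫ U.map f)).comp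
      (hS.map_of_exact U).extClass (zero_add 1)).comp (Ext.mk₀ (U.mapIso e₁ ≪≫ D.e).hom) (add_zero 1)) := by
    rw [← D.kum_eq]
    change ((Ext.mk₀ _).comp ((D.χ (Additive.ofMul b)).mapExactFunctor U) (zero_add 1)).comp _ _ = _
    rw [hmap]
    exact comp_assoc_aux _ _ _ _ _
  have hcl' : hT.extClass.comp (Ext.mk₀ (U.mapIso e₁ ≪≫ D.e).inv) (add_zero 1) =
      (Ext.mk₀ (EtSix.intToConstΛ (GalSym.Coef.{u} m) (Spec (CommRingCat.of F)) ≫ U.map f)).comp
        (hS.map_of_exact U).extClass (zero_add 1) := by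
    rw [show hT.extClass = D.kum b from hcl, hk, Ext.comp_assoc_of_third_deg_zero, Ext.mk₀_comp_mk₀, Iso.hom_inv_id,
      Ext.comp_mk₀_id]
  have hmain := killed_ext_comp m (int_sequence (X := Spec (CommRingCat.of F)) D.m_ne_zero) hT pr (uGm b)
    (by
      have := hpr
      change pr ≫ EtCoh.powMap _ m = n ≫ uGm b at this
      refine Eq.trans ?_ this
      exact ((Preadditive.comp_nsmul pr (𝟙 _) m).trans (congrArg (m • ·) (Category.comp_id pr))).symm)
    (hS.map_of_exact U) (nsmul_id_eq_zero S.X₂) (U.map f) (U.mapIso e₁ ≪≫ D.e) hcl'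
  refine Eq.trans ?_ hmain
  rw [hmap, hf, Ext.comp_assoc_of_third_deg_zero, Ext.mk₀_comp_mk₀, Iso.trans_hom, Functor.mapIso_hom,
    Category.assoc]
  rfl

/-- Removal of the twist. -/
def θA : EtSix.HMod (GalSym.Coef.{u} m) (Spec (CommRingCat.of F)) (GalSym.muPow D.μ 2) 2 →+
    EtSix.HMod (GalSym.Coef.{u} m) (Spec (CommRingCat.of F)) D.μ 2 :=
  haveI := isIso_twistUnit_app D.t D.μ
  (Ext.mk₀ (inv ((twistUnit D.t).app D.μ))).postcomp _ (add_zero 2)

/-- The comparison map. -/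
def θB : EtSix.HMod (GalSym.Coef.{u} m) (Spec (CommRingCat.of F)) D.μ 2 →+
    EtCoh.H (Spec (CommRingCat.of F))
      ((EtModD.forgetToAb (GalSym.Coef.{u} m) (Spec (CommRingCat.of F))).obj D.μ) 2 :=
  EtSix.HModToH (GalSym.Coef.{u} m) D.μ 2

/-- From the roots of unity to the units. -/
def θC : Ext.{u + 1} (EtCoh.const (Spec (CommRingCat.of F)) ℤ)
      ((EtModD.forgetToAb (GalSym.Coef.{u} m) (Spec (CommRingCat.of F))).obj D.μ) 2 →+
    Ext.{u + 1} (EtCoh.const (Spec (CommRingCat.of F)) ℤ) (EtCoh.Gm (Spec (CommRingCat.of F))) 2 :=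
  (Ext.mk₀ (D.e.hom ≫ EtCoh.muι (Spec (CommRingCat.of F)) m)).postcomp
    (EtCoh.const (Spec (CommRingCat.of F)) ℤ) (add_zero 2)

/-- `h_2` in terms of `H²(F, G_m)`. -/
def θ : EtSix.HMod (GalSym.Coef.{u} m) (Spec (CommRingCat.of F)) (GalSym.muPow D.μ 2) 2 →+
    Ext.{u + 1} (EtCoh.const (Spec (CommRingCat.of F)) ℤ) (EtCoh.Gm (Spec (CommRingCat.of F))) 2 :=
  D.θC.comp (D.θB.comp D.θA)

theorem θ_injective : Function.Injective D.θ := by
  haveI := isIso_twistUnit_app D.t D.μ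
  rw [injective_iff_map_eq_zero]
  intro x hx
  set z := x.comp (Ext.mk₀ (inv ((twistUnit D.t).app D.μ))) (add_zero 2) with hz
  have hx' : (EtSix.HModToH (GalSym.Coef.{u} m) D.μ 2 z).comp
      (Ext.mk₀ (D.e.hom ≫ EtCoh.muι (Spec (CommRingCat.of F)) m)) (add_zero 2) = 0 := hx
  rw [← Ext.mk₀_comp_mk₀, ← Ext.comp_assoc_of_third_deg_zero] at hx'
  have hK := EtSix.kummerShortExact D.hm
  obtain ⟨v, hv⟩ := Ext.covariant_sequence_exact₁ _ hK _ hx' (rfl : 1 + 1 = 2)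
  haveI : Subsingleton (Ext (EtCoh.const (Spec (CommRingCat.of F)) ℤ) (EtSix.kummerSC _ m).X₃ 1) :=
    Misc3.KummerField.subsingleton_H1_Gm F
  rw [Subsingleton.elim v 0, Ext.zero_comp] at hv
  have h1 := congrArg (fun w => Ext.comp w (Ext.mk₀ D.e.inv) (add_zero 2)) hv
  rw [Ext.zero_comp, Ext.comp_assoc_of_third_deg_zero, Ext.mk₀_comp_mk₀, D.e.hom_inv_id, Ext.comp_mk₀_id] at h1
  have h2 := injective_HModToH_two (mono_nsmul_int D.m_ne_zero) z h1.symm
  have h3 := congrArg (fun w => Ext.comp w (Ext.mk₀ ((twistUnit D.t).app D.μ)) (add_zero 2)) h2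
  rw [hz, Ext.zero_comp, Ext.comp_assoc_of_third_deg_zero, Ext.mk₀_comp_mk₀, IsIso.inv_hom_id, Ext.comp_mk₀_id] at h3
  exact h3

theorem θ_symbol (a b : Fˣ) :
    D.θ (D.h 2 (MilK.symbol ![a, b])) = - (D.cA a).comp (Ext.mk₀ (uGm b)) (add_zero 2) := by
  haveI := isIso_twistUnit_app D.t D.μ
  have hcup : D.h 2 (MilK.symbol ![a, b]) =
      EtSix.cup D.μ D.μ 1 1 (rfl : 1 + 1 = 2) (D.χ (Additive.ofMul a)) (D.χ (Additive.ofMul b)) := by
    rw [← D.hh.2.1 b]
    exact D.hh.2.2 0 a ![b]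
  rw [hcup, cup_eq D.t]
  set U := EtModD.forgetToAb (GalSym.Coef.{u} m) (Spec (CommRingCat.of F))
  change (EtSix.HModToH (GalSym.Coef.{u} m) D.μ 2 ((((D.χ (Additive.ofMul a)).comp (Ext.mk₀ D.t.inv) (add_zero 1)).comp (D.χ (Additive.ofMul b)) (rfl : 1 + 1 = 2)).comp (Ext.mk₀ ((twistUnit D.t).app D.μ)) (add_zero 2) |>.comp (Ext.mk₀ (inv ((twistUnit D.t).app D.μ))) (add_zero 2))).comp (Ext.mk₀ (D.e.hom ≫ EtCoh.muι (Spec (CommRingCat.of F)) m)) (add_zero 2) = _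
  rw [Ext.comp_assoc_of_third_deg_zero, Ext.mk₀_comp_mk₀, IsIso.hom_inv_id, Ext.comp_mk₀_id,
    HModToH_comp, HModToH_comp, Ext.mapExactFunctor_mk₀, Ext.comp_assoc_of_third_deg_zero]
  refine (congrArg (fun w => Ext.comp _ w _) (D.mapExact_χ_comp b)).trans ?_
  rw [Ext.comp_neg, neg_inj, cA, ← Ext.comp_assoc_of_third_deg_zero, ← D.kum_eq, y, Iso.trans_inv,
    ← Ext.mk₀_comp_mk₀]
  rw [Ext.comp_assoc_of_third_deg_zero (α := _) (β := Ext.mk₀ D.e.hom),
    Ext.mk₀_comp_mk₀_assoc, Iso.hom_inv_id, Ext.mk₀_id_comp]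
  rfl

theorem symbol_eq_zero_iff (a b : Fˣ) :
    D.h 2 (MilK.symbol ![a, b]) = 0 ↔ (D.cA a).comp (Ext.mk₀ (uGm b)) (add_zero 2) = 0 := by
  rw [← D.θ_injective.eq_iff, map_zero, θ_symbol, neg_eq_zero]

end Dat

end Groth.Agent.GalNorm
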