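import Groth.Agent.GalNorm.KRes

/-! The Galois symbol in degree two is a `ℤ/m`-valued antisymmetric bilinear function of two units. -/

set_option autoImplicit false
set_option backward.isDefEq.respectTransparency false
set_option backward.isDefEq.respectTransparency.types false
set_option linter.style.haveILetI false

universe u

open CategoryTheory CategoryTheory.Limits CategoryTheory.Abelian AlgebraicGeometry

noncomputable section

namespace Groth.Agent.GalNorm

attribute [local instance 100000] EtCoh.H._proof_1 EtMV.hext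
attribute [local instance 200000] EtMV.hextAb

theorem ext_nsmul_eq_zero {C : Type*} [Category C] [Abelian C] [HasExt C] {A B : C} {n m : ℕ}
    (h : m • 𝟙 B = 0) (w : Ext A B n) : m • w = 0 := by
  have e := map_nsmul (AddMonoidHom.mk' (fun f : B ⟶ B => w.comp (Ext.mk₀ f) (add_zero n))
    (fun f g => by rw [Ext.mk₀_add, Ext.comp_add])) m (𝟙 B)
  simp only [AddMonoidHom.mk'_apply, h, Ext.mk₀_zero, Ext.comp_zero, Ext.comp_mk₀_id] at e
  exact e.symm

variable {F : Type u} [Field F] {m : ℕ}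
  [PreservesFiniteLimits (EtModD.forgetToAb (GalSym.Coef.{u} m) (Spec (CommRingCat.of F)))]
  [PreservesFiniteColimits (EtModD.forgetToAb (GalSym.Coef.{u} m) (Spec (CommRingCat.of F)))]
  [(EtModD.forgetToAb (GalSym.Coef.{u} m) (Spec (CommRingCat.of F))).Additive]
  (D : Dat F m)

theorem Dat.nsmul_θ (x : EtSix.HMod (GalSym.Coef.{u} m) (Spec (CommRingCat.of F)) (GalSym.muPow D.μ 2) 2) :
    m • D.θ x = 0 := by
  have h : m • D.θB (D.θA x) = 0 := ext_nsmul_eq_zero (nsmul_id_eq_zero D.μ) _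
  show m • D.θC (D.θB (D.θA x)) = 0
  rw [← map_nsmul]
  exact (congrArg D.θC h).trans (map_zero _)

theorem Dat.nsmul_eq_zero (x : EtSix.HMod (GalSym.Coef.{u} m) (Spec (CommRingCat.of F)) (GalSym.muPow D.μ 2) 2) :
    m • x = 0 :=
  D.θ_injective (by rw [map_nsmul, D.nsmul_θ, map_zero])

/-- The Galois symbol of two units. -/
def Dat.φ : Additive Fˣ →+ Additive Fˣ →+
    EtSix.HMod (GalSym.Coef.{u} m) (Spec (CommRingCat.of F)) (GalSym.muPow D.μ 2) 2 :=
  AddMonoidHom.mk' (fun a => (D.h 2).comp (MilnorK.s2 a)) fun a b => by rw [map_add, AddMonoidHom.comp_add]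

theorem Dat.φ_apply (a b : Fˣ) : D.φ (.ofMul a) (.ofMul b) = D.h 2 (MilK.symbol ![a, b]) := rfl

theorem Dat.φ_swap (a b : Additive Fˣ) : D.φ b a = - D.φ a b :=
  (congrArg (D.h 2) (MilnorK.sym_swap a.toMul b.toMul)).trans (map_neg _ _)

theorem Dat.φ_stein (a b : Fˣ) (h : (a : F) + b = 1) : D.φ (.ofMul a) (.ofMul b) = 0 :=
  (congrArg (D.h 2) (MilnorK.sym_stein a b h)).trans (map_zero _)

theorem Dat.φ_self_neg (a : Fˣ) : D.φ (.ofMul a) (.ofMul (-a)) = 0 :=
  (congrArg (D.h 2) (MilnorK.sym_self_neg a)).trans (map_zero _)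

end Groth.Agent.GalNorm
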